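import Cfsg.Agent.Lib.KnownA.ClassNumberGL

/-!
Determinants of multiplication maps on the primary blocks `K[X] / (p ^ e)`.
-/

set_option autoImplicit false

namespace CfsgLib.ClassNumberSL

open Polynomial

variable {K : Type*} [Field K]

/-- The block of a polynomial. -/
abbrev Q (P : K[X]) : Type _ := K[X] ⧸ Ideal.span {P}

/-- Multiplication by a polynomial on a block. -/
noncomputable def mu (P u : K[X]) : Q P →ₗ[K] Q P := LinearMap.mulLeft K (Ideal.Quotient.mk _ u)

theorem mu_mk (P u x : K[X]) :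
    mu P u (Ideal.Quotient.mk _ x) = Ideal.Quotient.mk (Ideal.span {P}) (u * x) := (map_mul _ u x).symm

theorem mu_eq_smul (P u : K[X]) (x : Q P) : mu P u x = u • x := by
  obtain ⟨x, rfl⟩ := Ideal.Quotient.mk_surjective x
  exact mu_mk P u x

theorem mk_eq_mk_iff (P x y : K[X]) :
    Ideal.Quotient.mk (Ideal.span {P}) x = Ideal.Quotient.mk _ y ↔ P ∣ x - y := by
  rw [Ideal.Quotient.eq, Ideal.mem_span_singleton]

theorem mk_eq_zero_iff (P x : K[X]) : Ideal.Quotient.mk (Ideal.span {P}) x = 0 ↔ P ∣ x := by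
  rw [Ideal.Quotient.eq_zero_iff_mem, Ideal.mem_span_singleton]

theorem finite_Q {P : K[X]} (hP : P.Monic) : Module.Finite K (Q P) := hP.finite_adjoinRoot

theorem det_mu_pow {p : K[X]} (hp : p.Monic) (u : K[X]) :
    ∀ e, LinearMap.det (mu (p ^ e) u) = LinearMap.det (mu p u) ^ e := by
  intro e
  induction e with
  | zero =>
    have : Subsingleton (Q (p ^ 0)) := by
      rw [pow_zero]
      exact Ideal.Quotient.subsingleton_iff.2 Ideal.span_singleton_one
    rw [pow_zero (LinearMap.det (mu p u))]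
    simp [LinearMap.det_eq_one_of_subsingleton]
  | succ e ih =>
    haveI := finite_Q (hp.pow (e + 1))
    haveI := finite_Q (hp.pow e)
    haveI := finite_Q hp
    let π : Q (p ^ (e + 1)) →ₗ[K] Q (p ^ e) :=
      (Ideal.Quotient.factorₐ K (Ideal.span_singleton_le_span_singleton.2 (pow_dvd_pow p (Nat.le_succ e)))).toLinearMap
    have hπ : ∀ x, π (Ideal.Quotient.mk _ x) = Ideal.Quotient.mk _ x := fun x => rfl
    let ι : Q p →ₗ[K] Q (p ^ (e + 1)) :=
      (Submodule.mapQ (Ideal.span {p}) (Ideal.span {p ^ (e + 1)}) (LinearMap.mulLeft K[X] (p ^ e))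
        (fun x hx => by
          rw [Submodule.mem_comap, LinearMap.mulLeft_apply, Ideal.mem_span_singleton]
          rw [Ideal.mem_span_singleton] at hx
          rw [pow_succ]
          exact mul_dvd_mul_left _ hx)).restrictScalars K
    have hι : ∀ x, ι (Ideal.Quotient.mk _ x) = Ideal.Quotient.mk _ (p ^ e * x) := fun x => rfl
    have hιinj : Function.Injective ι := by
      rw [injective_iff_map_eq_zero]
      intro x hx
      obtain ⟨x, rfl⟩ := Ideal.Quotient.mk_surjective x
      rw [hι, mk_eq_zero_iff, pow_succ] at hx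
      rw [mk_eq_zero_iff]
      exact (mul_dvd_mul_iff_left (hp.pow e).ne_zero).1 hx
    have hrange : LinearMap.range ι = LinearMap.ker π := by
      ext y
      obtain ⟨y, rfl⟩ := Ideal.Quotient.mk_surjective y
      rw [LinearMap.mem_ker, hπ, mk_eq_zero_iff, LinearMap.mem_range]
      constructor
      · rintro ⟨x, hx⟩
        obtain ⟨x, rfl⟩ := Ideal.Quotient.mk_surjective x
        rw [hι, mk_eq_mk_iff] at hx
        have h1 : p ^ e ∣ p ^ e * x - y := (pow_dvd_pow p (Nat.le_succ e)).trans hx
        simpa using (dvd_mul_right (p ^ e) x).sub h1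
      · rintro ⟨x, rfl⟩
        exact ⟨Ideal.Quotient.mk _ x, hι x⟩
    have hπsurj : Function.Surjective π := fun y => by
      obtain ⟨y, rfl⟩ := Ideal.Quotient.mk_surjective y
      exact ⟨Ideal.Quotient.mk _ y, rfl⟩
    let f := mu (p ^ (e + 1)) u
    have hπf : ∀ x, π (f x) = mu (p ^ e) u (π x) := fun x => by
      obtain ⟨x, rfl⟩ := Ideal.Quotient.mk_surjective x
      simp only [f, mu_mk, hπ]
    have hιf : ∀ x, f (ι x) = ι (mu p u x) := fun x => by
      obtain ⟨x, rfl⟩ := Ideal.Quotient.mk_surjective x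
      simp only [f, mu_mk, hι]
      rw [mul_left_comm]
    have hW : LinearMap.ker π ≤ (LinearMap.ker π).comap f := fun x hx => by
      rw [Submodule.mem_comap, LinearMap.mem_ker, hπf, LinearMap.mem_ker.1 hx, map_zero]
    let eW : Q p ≃ₗ[K] LinearMap.ker π := (LinearEquiv.ofInjective ι hιinj).trans (LinearEquiv.ofEq _ _ hrange)
    have heW : ∀ x, (eW x : Q (p ^ (e + 1))) = ι x := fun x => rfl
    let eQ : (Q (p ^ (e + 1)) ⧸ LinearMap.ker π) ≃ₗ[K] Q (p ^ e) := π.quotKerEquivOfSurjective hπsurj
    have e1 : f.restrict hW = eW.toLinearMap ∘ₗ mu p u ∘ₗ eW.symm.toLinearMap := by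
      refine LinearMap.ext fun w => ?_
      obtain ⟨x, rfl⟩ := eW.surjective w
      refine Subtype.ext ?_
      simp only [LinearMap.restrict_apply, LinearMap.coe_comp, LinearEquiv.coe_coe, Function.comp_apply,
        LinearEquiv.symm_apply_apply, heW, hιf]
    have e2 : (LinearMap.ker π).mapQ _ f hW = eQ.symm.toLinearMap ∘ₗ mu (p ^ e) u ∘ₗ eQ.toLinearMap := by
      refine LinearMap.ext fun w => ?_
      obtain ⟨x, rfl⟩ := Submodule.Quotient.mk_surjective _ w
      apply eQ.injective
      simp only [LinearMap.coe_comp, LinearEquiv.coe_coe, Function.comp_apply, LinearEquiv.apply_symm_apply,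
        Submodule.mapQ_apply]
      exact hπf x
    rw [show mu (p ^ (e + 1)) u = f from rfl, LinearMap.det_eq_det_mul_det _ f hW, e1, LinearMap.det_conj, e2,
      show eQ.toLinearMap = eQ.symm.symm.toLinearMap from rfl, LinearMap.det_conj, ih, pow_succ']

/-- The value `(-1) ^ deg P * P(0)`. -/
def ev (P : K[X]) : K := (-1) ^ P.natDegree * P.coeff 0

theorem ev_one : ev (1 : K[X]) = 1 := by simp [ev]

theorem ev_mul {P R : K[X]} (hP : P.Monic) (hR : R.Monic) : ev (P * R) = ev P * ev R := by
  rw [ev, ev, ev, hP.natDegree_mul hR, pow_add, Polynomial.mul_coeff_zero]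
  ring

theorem ev_prod {ι : Type*} (s : Finset ι) (P : ι → K[X]) (h : ∀ i ∈ s, (P i).Monic) :
    ev (∏ i ∈ s, P i) = ∏ i ∈ s, ev (P i) := by
  classical
  induction s using Finset.induction_on with
  | empty => simp [ev_one]
  | @insert a s ha ih =>
    rw [Finset.prod_insert ha, Finset.prod_insert ha,
      ev_mul (h a (Finset.mem_insert_self a s))
        (Polynomial.monic_prod_of_monic _ _ fun i hi => h i (Finset.mem_insert_of_mem hi)),
      ih fun i hi => h i (Finset.mem_insert_of_mem hi)]

theorem det_mu_X {p : K[X]} (hp : p.Monic) (hirr : Irreducible p) : LinearMap.det (mu p X) = ev p := by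
  haveI := Fact.mk hirr
  show Algebra.norm K (AdjoinRoot.root p) = _
  have h := Algebra.PowerBasis.norm_gen_eq_coeff_zero_minpoly (AdjoinRoot.powerBasis hp.ne_zero)
  rw [AdjoinRoot.powerBasis_gen, AdjoinRoot.powerBasis_dim, AdjoinRoot.minpoly_root hp.ne_zero,
    hp.leadingCoeff, inv_one, map_one, mul_one] at h
  exact h

theorem exists_det_mu [Finite K] {p : K[X]} (hp : p.Monic) (hirr : Irreducible p) (x : K) :
    ∃ u, LinearMap.det (mu p u) = x := by
  haveI := Fact.mk hirr
  haveI : Module.Finite K (AdjoinRoot p) := hp.finite_adjoinRoot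
  haveI : Finite (AdjoinRoot p) := Module.finite_of_finite K
  obtain ⟨y, hy⟩ := FiniteField.norm_surjective K (AdjoinRoot p) x
  obtain ⟨u, rfl⟩ := AdjoinRoot.mk_surjective y
  exact ⟨u, hy⟩

end CfsgLib.ClassNumberSL
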