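import Cfsg.Agent.Lib.KnownA.ClassNumberSL.Blocks

/-!
Weighted counting of tuples with prescribed determinant.
-/

set_option autoImplicit false

namespace CfsgLib.ClassNumberSL

open Polynomial Finset CfsgLib.ClassNumberGL

variable {K : Type*} [Field K]

/-- The positions with a non-constant entry. -/
def supp {m : ℕ} (b : Fin m → K[X]) : Finset (Fin m) := univ.filter fun i => 0 < (b i).natDegree

/-- The greatest common divisor of `q - 1` and the positions in a set. -/
def gS (q : ℕ) {m : ℕ} (S : Finset (Fin m)) : ℕ := Nat.gcd (q - 1) (S.gcd fun i => (i : ℕ) + 1)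

/-- The signed determinant of a tuple. -/
def dete {m : ℕ} (e : ℕ) (b : Fin m → K[X]) : K :=
  ∏ i, ((-1) ^ (e * (b i).natDegree) * (b i).coeff 0) ^ ((i : ℕ) + 1)

theorem gS_dvd (q : ℕ) {m : ℕ} (S : Finset (Fin m)) {i : Fin m} (hi : i ∈ S) : gS q S ∣ (i : ℕ) + 1 :=
  (Nat.gcd_dvd_right _ _).trans (Finset.gcd_dvd hi)

theorem gS_dvd_sub (q : ℕ) {m : ℕ} (S : Finset (Fin m)) : gS q S ∣ q - 1 := Nat.gcd_dvd_left _ _

theorem gS_pos {q : ℕ} (hq : 1 < q) {m : ℕ} (S : Finset (Fin m)) : 0 < gS q S :=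
  Nat.gcd_pos_of_pos_left _ (by omega)

theorem exists_prod_pow [Fintype K] {m : ℕ} (S : Finset (Fin m)) :
    ∀ y : Kˣ, ∃ x : Fin m → Kˣ, (∀ i, i ∉ S → x i = 1) ∧
      ∏ i, x i ^ ((i : ℕ) + 1) = y ^ gS (Fintype.card K) S := by
  induction S using Finset.induction_on with
  | empty =>
    intro y
    refine ⟨fun _ => 1, fun _ _ => rfl, ?_⟩
    rw [gS, Finset.gcd_empty, Nat.gcd_zero_right]
    rw [Finset.prod_eq_one fun i _ => one_pow _]
    refine (Units.ext ?_).symm
    rw [Units.val_pow_eq_pow_val, FiniteField.pow_card_sub_one_eq_one (y : K) y.ne_zero, Units.val_one]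
  | @insert a S ha ih =>
    intro y
    set A := (a : ℕ) + 1
    set G := gS (Fintype.card K) S
    obtain ⟨x, hx, hxp⟩ := ih (y ^ Nat.gcdB A G)
    refine ⟨Function.update x a (y ^ Nat.gcdA A G), fun i hi => ?_, ?_⟩
    · rw [Finset.mem_insert, not_or] at hi
      rw [Function.update_of_ne hi.1, hx i hi.2]
    · have hg : gS (Fintype.card K) (insert a S) = Nat.gcd A G := by
        show Nat.gcd _ _ = Nat.gcd _ (Nat.gcd _ _)
        rw [Finset.gcd_insert, ← Nat.gcd_assoc, Nat.gcd_comm A, Nat.gcd_assoc]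
        rfl
      rw [← Finset.mul_prod_erase _ _ (mem_univ a), Function.update_self]
      rw [← Finset.mul_prod_erase _ _ (mem_univ a), hx a ha, one_pow, one_mul] at hxp
      rw [Finset.prod_congr rfl fun i hi => by rw [Function.update_of_ne (Finset.ne_of_mem_erase hi)], hxp, hg,
        ← zpow_natCast (y ^ Nat.gcdA A G), ← zpow_natCast (y ^ Nat.gcdB A G), ← zpow_mul, ← zpow_mul, ← zpow_add,
        ← zpow_natCast, Nat.gcd_eq_gcd_ab, mul_comm (A : ℤ), mul_comm (G : ℤ)]

/-- Multiplication of a constant coefficient. -/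
noncomputable def twist (P : K[X]) (x : Kˣ) : K[X] :=
  if 0 < P.natDegree then P + C (((x : K) - 1) * P.coeff 0) else P

theorem natDegree_twist (P : K[X]) (x : Kˣ) : (twist P x).natDegree = P.natDegree := by
  unfold twist
  split_ifs
  · exact natDegree_add_C
  · rfl

theorem monic_twist {P : K[X]} (hP : P.Monic) (x : Kˣ) : (twist P x).Monic := by
  unfold twist
  split_ifs with h
  · exact hP.add_of_left (lt_of_le_of_lt degree_C_le (natDegree_pos_iff_degree_pos.1 h))
  · exact hP

theorem coeff_twist {P : K[X]} {x : Kˣ} (hx : P.natDegree = 0 → x = 1) :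
    (twist P x).coeff 0 = x * P.coeff 0 := by
  unfold twist
  split_ifs with h
  · rw [coeff_add, coeff_C_zero]; ring
  · rw [hx (by omega), Units.val_one, one_mul]

theorem twist_injective {P R : K[X]} {x : Kˣ} (hP : P.natDegree = 0 → x = 1) (hR : R.natDegree = 0 → x = 1)
    (h : twist P x = twist R x) : P = R := by
  have hd : P.natDegree = R.natDegree := by rw [← natDegree_twist P x, h, natDegree_twist]
  have hc : P.coeff 0 = R.coeff 0 :=
    mul_left_cancel₀ x.ne_zero (by rw [← coeff_twist hP, h, coeff_twist hR])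
  unfold twist at h
  rw [hd, hc] at h
  split_ifs at h <;> simpa using h

theorem dete_twist {m : ℕ} (e : ℕ) (b : Fin m → K[X]) (x : Fin m → Kˣ)
    (hx : ∀ i, (b i).natDegree = 0 → x i = 1) :
    dete e (fun i => twist (b i) (x i)) = ((∏ i, x i ^ ((i : ℕ) + 1) : Kˣ) : K) * dete e b := by
  rw [dete, dete, Units.coe_prod, ← Finset.prod_mul_distrib]
  refine Finset.prod_congr rfl fun i _ => ?_
  rw [natDegree_twist, coeff_twist (hx i), Units.val_pow_eq_pow_val, ← mul_pow]
  ring

/-- A fixed choice of exponents. -/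
noncomputable def sect [Fintype K] {m : ℕ} (S : Finset (Fin m)) (y : Kˣ) : Fin m → Kˣ :=
  open Classical in
  if h : ∃ x : Fin m → Kˣ, (∀ i, i ∉ S → x i = 1) ∧ ∏ i, x i ^ ((i : ℕ) + 1) = y then h.choose else fun _ => 1

theorem sect_spec [Fintype K] {m : ℕ} (S : Finset (Fin m))
    {y : Kˣ} (hy : y ∈ (powMonoidHom (gS (Fintype.card K) S) : Kˣ →* Kˣ).range) :
    (∀ i, i ∉ S → sect S y i = 1) ∧ ∏ i, sect S y i ^ ((i : ℕ) + 1) = y := by
  obtain ⟨z, rfl⟩ := hy
  have h := exists_prod_pow S z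
  rw [powMonoidHom_apply]
  rw [sect, dif_pos h]
  exact h.choose_spec

/-- The weighted count with determinant one. -/
theorem weighted [Fintype K] (e m n : ℕ) :
    (Fintype.card K - 1) * Nat.card (Σ b : {b : Tup K m n // dete e b.1 = 1}, Fin (gS (Fintype.card K) (supp b.1.1))) ≤
      Nat.card (Σ b : Tup K m n, Fin (gS (Fintype.card K) (supp b.1) ^ 2)) := by
  classical
  haveI := (card_tup (K := K) m n).1
  haveI := Fintype.ofFinite (Tup K m n)
  set q := Fintype.card K
  let R := fun b : Tup K m n => (powMonoidHom (gS q (supp b.1)) : Kˣ →* Kˣ).range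
  let L := Σ b : {b : Tup K m n // dete e b.1 = 1}, R b.1 × Fin (gS q (supp b.1.1) ^ 2)
  have hL : Nat.card L = (q - 1) * Nat.card (Σ b : {b : Tup K m n // dete e b.1 = 1}, Fin (gS q (supp b.1.1))) := by
    rw [Nat.card_sigma, Nat.card_sigma, Finset.mul_sum]
    refine Finset.sum_congr rfl fun b _ => ?_
    rw [Nat.card_prod, Nat.card_fin, Nat.card_fin, IsCyclic.card_powMonoidHom_range, Nat.card_units,
      Nat.card_eq_fintype_card]
    show (q - 1) / Nat.gcd (q - 1) _ * _ = _
    rw [Nat.gcd_eq_right (gS_dvd_sub q _), sq, ← mul_assoc, Nat.div_mul_cancel (gS_dvd_sub q _)]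
  rw [← hL]
  have hx : ∀ (b : {b : Tup K m n // dete e b.1 = 1}) (y : R b.1) i,
      (b.1.1 i).natDegree = 0 → sect (supp b.1.1) y.1 i = 1 := fun b y i hi =>
    (sect_spec _ y.2).1 i (by simp [supp, hi])
  let img : ∀ b : {b : Tup K m n // dete e b.1 = 1}, R b.1 → Tup K m n := fun b y =>
    ⟨fun i => twist (b.1.1 i) (sect (supp b.1.1) y.1 i), fun i => ⟨monic_twist (b.1.2.1 i).1 _, by
      rw [coeff_twist (hx b y i)]
      exact mul_ne_zero (Units.ne_zero _) (b.1.2.1 i).2⟩, by simpa only [natDegree_twist] using b.1.2.2⟩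
  have hsupp : ∀ b y, supp (img b y).1 = supp b.1.1 := fun b y => by simp [supp, img, natDegree_twist]
  have hdet : ∀ b y, dete e (img b y).1 = ((y.1 : Kˣ) : K) := fun b y => by
    rw [dete_twist e b.1.1 _ (hx b y), (sect_spec _ y.2).2, b.2, mul_one]
  let f : L → Σ b : Tup K m n, Fin (gS q (supp b.1) ^ 2) := fun z =>
    ⟨img z.1 z.2.1, Fin.cast (by rw [hsupp]) z.2.2⟩
  refine Nat.card_le_card_of_injective f ?_
  rintro ⟨b, y, k⟩ ⟨b', y', k'⟩ h
  simp only [f, Sigma.mk.injEq] at h
  obtain ⟨himg, hk⟩ := h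
  have hy : (y.1 : Kˣ) = y'.1 := Units.ext (by rw [← hdet b y, ← hdet b' y', himg])
  have hs : supp b.1.1 = supp b'.1.1 := by rw [← hsupp b y, ← hsupp b' y', himg]
  obtain rfl : b = b' := Subtype.ext (Subtype.ext (funext fun i => by
    refine twist_injective (hx b y i) (fun hi => ?_) ?_ (x := sect (supp b.1.1) y.1 i)
    · rw [hs, hy]; exact hx b' y' i hi
    · have := congrFun (congrArg Subtype.val himg) i
      simp only [img] at this
      rw [this, hs, hy]))
  obtain rfl : y = y' := Subtype.ext hy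
  simp only [heq_eq_eq, Fin.cast_inj] at hk
  rw [hk]

/-- The possible values of the weight other than one. -/
def dset (q n : ℕ) : Finset ℕ := (Finset.Icc 2 n).filter fun d => d ∣ n ∧ d ∣ q - 1

/-- The bound for the weighted count. -/
def E (q n : ℕ) : ℕ := F q n n + ∑ d ∈ dset q n, (d ^ 2 - 1) * F q (n / d) (n / d)

theorem gS_supp_dvd (q : ℕ) {m n : ℕ} (b : Tup K m n) : gS q (supp b.1) ∣ n := by
  conv_rhs => rw [← b.2.2]
  refine Finset.dvd_sum fun i _ => ?_
  rcases Nat.eq_zero_or_pos (b.1 i).natDegree with h | h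
  · simp [h]
  · exact Dvd.dvd.mul_right (gS_dvd q _ (by simp [supp, h])) _

theorem card_dvd_le [Fintype K] (n d : ℕ) (hd : 0 < d) (hdn : d ∣ n) :
    Nat.card {b : Tup K n n // d ∣ gS (Fintype.card K) (supp b.1)} ≤ F (Fintype.card K) (n / d) (n / d) := by
  classical
  haveI := (card_tup (K := K) (n / d) (n / d)).1
  have hmul : d * (n / d) = n := Nat.mul_div_cancel' hdn
  let idx : Fin (n / d) → Fin n := fun k => ⟨d * ((k : ℕ) + 1) - 1, by
    have h1 : d * ((k : ℕ) + 1) ≤ d * (n / d) := Nat.mul_le_mul_left d k.2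
    have h2 : 0 < d * ((k : ℕ) + 1) := Nat.mul_pos hd (Nat.succ_pos _)
    omega⟩
  have hidx : ∀ k, ((idx k : ℕ) + 1) = d * ((k : ℕ) + 1) := fun k => by
    have h2 : 0 < d * ((k : ℕ) + 1) := Nat.mul_pos hd (Nat.succ_pos _)
    simp only [idx]; omega
  have hinj : Function.Injective idx := fun a b h => by
    have := congrArg (fun i : Fin n => (i : ℕ) + 1) h
    simp only [hidx] at this
    exact Fin.ext (by have := Nat.eq_of_mul_eq_mul_left hd this; omega)
  have hoff : ∀ b : {b : Tup K n n // d ∣ gS (Fintype.card K) (supp b.1)}, ∀ i, i ∉ univ.image idx →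
      (b.1.1 i).natDegree = 0 := by
    intro b i hi
    by_contra h
    obtain ⟨c, hc⟩ := b.2.trans (gS_dvd _ _ (i := i) (by simp [supp]; omega))
    refine hi (Finset.mem_image.2 ⟨⟨c - 1, ?_⟩, mem_univ _, Fin.ext ?_⟩)
    · have h1 : d * c ≤ d * (n / d) := by have := i.2; omega
      have h2 := Nat.le_of_mul_le_mul_left h1 hd
      rcases Nat.eq_zero_or_pos c with rfl | h3
      · omega
      · omega
    · rcases Nat.eq_zero_or_pos c with rfl | h3
      · omega
      · simp only [idx, Nat.sub_add_cancel h3]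
        rw [← hc]; rfl
  let f : {b : Tup K n n // d ∣ gS (Fintype.card K) (supp b.1)} → Tup K (n / d) (n / d) := fun b =>
    ⟨fun k => b.1.1 (idx k), fun k => b.1.2.1 _, by
      refine Nat.eq_of_mul_eq_mul_left hd ?_
      rw [hmul, Finset.mul_sum]
      conv_rhs => rw [← b.1.2.2]
      rw [← Finset.sum_subset (Finset.subset_univ (univ.image idx)) fun i _ hi => by rw [hoff b i hi, mul_zero],
        Finset.sum_image fun a _ b _ h => hinj h]
      exact Finset.sum_congr rfl fun k _ => by rw [hidx, mul_assoc]⟩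
  refine (Nat.card_le_card_of_injective f ?_).trans (card_tup _ _).2
  intro b b' h
  refine Subtype.ext (Subtype.ext (funext fun i => ?_))
  by_cases hi : i ∈ univ.image idx
  · obtain ⟨k, -, rfl⟩ := Finset.mem_image.1 hi
    exact congrFun (congrArg Subtype.val h) k
  · rw [eq_one_of_monic_natDegree_zero (b.1.2.1 i).1 (hoff b i hi),
      eq_one_of_monic_natDegree_zero (b'.1.2.1 i).1 (hoff b' i hi)]

theorem sum_sq_le [Fintype K] (n : ℕ) (hn : 0 < n) :
    Nat.card (Σ b : Tup K n n, Fin (gS (Fintype.card K) (supp b.1) ^ 2)) ≤ E (Fintype.card K) n := by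
  classical
  haveI := (card_tup (K := K) n n).1
  haveI := Fintype.ofFinite (Tup K n n)
  set q := Fintype.card K
  have hpt : ∀ b : Tup K n n, gS q (supp b.1) ^ 2 ≤
      1 + ∑ d ∈ dset q n, if d ∣ gS q (supp b.1) then d ^ 2 - 1 else 0 := by
    intro b
    set g := gS q (supp b.1)
    rcases le_or_gt g 1 with h | h
    · exact (Nat.pow_le_one_iff (by norm_num)).2 h |>.trans (Nat.le_add_right _ _)
    · have hd := gS_supp_dvd q b
      have hmem : g ∈ dset q n := by
        simp only [dset, Finset.mem_filter, Finset.mem_Icc]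
        exact ⟨⟨h, Nat.le_of_dvd hn hd⟩, hd, gS_dvd_sub q _⟩
      have hs := Finset.single_le_sum (f := fun d => if d ∣ g then d ^ 2 - 1 else 0)
        (fun _ _ => Nat.zero_le _) hmem
      simp only [dvd_refl, if_true] at hs
      omega
  rw [Nat.card_sigma]
  simp only [Nat.card_fin]
  refine (Finset.sum_le_sum fun b _ => hpt b).trans ?_
  rw [Finset.sum_add_distrib, Finset.sum_comm]
  refine Nat.add_le_add ?_ (Finset.sum_le_sum fun d hd => ?_)
  · rw [Finset.sum_const, smul_eq_mul, mul_one, Finset.card_univ, ← Nat.card_eq_fintype_card]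
    exact (card_tup n n).2
  · simp only [dset, Finset.mem_filter, Finset.mem_Icc] at hd
    rw [← Finset.sum_filter, Finset.sum_const, smul_eq_mul, mul_comm]
    refine Nat.mul_le_mul_left _ ?_
    rw [← Fintype.card_subtype, ← Nat.card_eq_fintype_card]
    exact card_dvd_le n d (by omega) hd.2.1

end CfsgLib.ClassNumberSL
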