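import Cfsg.Agent.Lib.KnownA.ClassNumberSL.Decomp
import Cfsg.Agent.Lib.KnownA.ClassNumberSL.Count

/-!
Classes of `SL n` fixed by multiplication by a scalar.
-/

set_option autoImplicit false

namespace CfsgLib.ClassNumberSL

open Polynomial Finset CfsgLib.ClassNumberGL
open scoped MatrixGroups

variable {K : Type*} [Field K] {n : ℕ}

theorem expand_contract_of_fixed {P : K[X]} (h0 : P.coeff 0 ≠ 0) {c : Kˣ} {e : ℕ} (he : orderOf c = e)
    (he0 : e ≠ 0) (h : P.scaleRoots (c : K) = P) : expand K e (contract e P) = P := by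
  have hdvd : ∀ j, P.coeff j ≠ 0 → e ∣ P.natDegree - j := by
    intro j hj
    have h1 := congrArg (fun p : K[X] => p.coeff j) h
    simp only [coeff_scaleRoots] at h1
    have h2 : c ^ (P.natDegree - j) = 1 := Units.ext (by
      rw [Units.val_pow_eq_pow_val, Units.val_one]
      exact mul_left_cancel₀ hj (by rw [h1, mul_one]))
    exact he ▸ orderOf_dvd_of_pow_eq_one h2
  ext j
  rw [coeff_expand (Nat.pos_of_ne_zero he0), coeff_contract he0]
  split_ifs with hj
  · rw [Nat.div_mul_cancel hj]
  · by_contra hne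
    have hj' : P.coeff j ≠ 0 := fun h => hne h.symm
    have h1 := hdvd 0 h0
    rw [Nat.sub_zero] at h1
    exact hj ((Nat.dvd_add_iff_right (hdvd j hj')).2 (by
      rwa [Nat.sub_add_cancel (le_natDegree_of_ne_zero hj')]))

/-- The predicate that a class is fixed by a scalar up to similarity. -/
def Fixed (c : Kˣ) (C : ConjClasses (Matrix.SpecialLinearGroup (Fin n) K)) : Prop :=
  ∀ a, ConjClasses.mk a = C → ∃ h : GL (Fin n) K,
    (h : Matrix (Fin n) (Fin n) K) * (a : Matrix (Fin n) (Fin n) K) =
      ((c : K) • (a : Matrix (Fin n) (Fin n) K)) * (h : Matrix (Fin n) (Fin n) K)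

theorem equiv_of_gl (h : GL (Fin n) K) {A B : Matrix (Fin n) (Fin n) K}
    (hh : (h : Matrix (Fin n) (Fin n) K) * A = B * h) :
    ∃ e : (Fin n → K) ≃ₗ[K] (Fin n → K), ∀ x, e (Matrix.toLin' A x) = Matrix.toLin' B (e x) :=
  ⟨(Matrix.GeneralLinearGroup.toLin h).toLinearEquiv, fun x => by
    show Matrix.mulVec (h : Matrix (Fin n) (Fin n) K) (Matrix.mulVec A x) =
      Matrix.mulVec B (Matrix.mulVec (h : Matrix (Fin n) (Fin n) K) x)
    rw [Matrix.mulVec_mulVec, Matrix.mulVec_mulVec, hh]⟩

theorem gl_of_equiv {A B : Matrix (Fin n) (Fin n) K} (e : (Fin n → K) ≃ₗ[K] (Fin n → K))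
    (he : ∀ x, e (Matrix.toLin' A x) = Matrix.toLin' B (e x)) :
    ∃ h : GL (Fin n) K, (h : Matrix (Fin n) (Fin n) K) * A = B * h := by
  refine ⟨⟨LinearMap.toMatrix' e.toLinearMap, LinearMap.toMatrix' e.symm.toLinearMap, ?_, ?_⟩, ?_⟩
  · rw [← LinearMap.toMatrix'_comp]; simp
  · rw [← LinearMap.toMatrix'_comp]; simp
  · apply Matrix.toLin'.injective
    rw [Matrix.toLin'_mul, Matrix.toLin'_mul, Matrix.toLin'_toMatrix']
    exact LinearMap.ext fun x => he x

section Fixed

variable [Fintype K] {c : Kˣ} {e : ℕ}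

/-- A chosen decomposition of a representative. -/
noncomputable def repDecomp (C : ConjClasses (Matrix.SpecialLinearGroup (Fin n) K)) :
    Decomp ((C.exists_rep.choose : Matrix.SpecialLinearGroup (Fin n) K) : Matrix (Fin n) (Fin n) K) :=
  (exists_decomp _).some

theorem expand_tup (he : orderOf c = e) (he0 : e ≠ 0)
    (C : {C : ConjClasses (Matrix.SpecialLinearGroup (Fin n) K) // Fixed c C}) (i : Fin n) :
    expand K e (contract e (tup (repDecomp C.1) i)) = tup (repDecomp C.1) i := by
  have hu : IsUnit ((C.1.exists_rep.choose : Matrix.SpecialLinearGroup (Fin n) K) : Matrix (Fin n) (Fin n) K) :=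
    (Matrix.isUnit_iff_isUnit_det _).2 (by rw [C.1.exists_rep.choose.2]; exact isUnit_one)
  obtain ⟨h, hh⟩ := C.2 _ C.1.exists_rep.choose_spec
  obtain ⟨ε, hε⟩ := equiv_of_gl h hh
  obtain ⟨D', hD'⟩ := exists_smul_decomp (repDecomp C.1) c
  refine expand_contract_of_fixed ((tup_mem hu _).1 i).2 he he0 ?_
  rw [← hD' i, ← tup_eq (repDecomp C.1) D' ε hε]

/-- The number of classes fixed by a scalar of order `e`. -/
theorem card_fixed_le (hn : 0 < n) (he : orderOf c = e) (hen : e ∣ n) :
    (Fintype.card K - 1) * Nat.card {C : ConjClasses (Matrix.SpecialLinearGroup (Fin n) K) // Fixed c C} ≤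
      E (Fintype.card K) (n / e) := by
  classical
  have he0 : e ≠ 0 := fun h => by rw [h, zero_dvd_iff] at hen; omega
  have hm0 : 0 < n / e := Nat.div_pos (Nat.le_of_dvd hn hen) (Nat.pos_of_ne_zero he0)
  set m := n / e
  have hme : m * e = n := Nat.div_mul_cancel hen
  have hmn : m ≤ n := Nat.div_le_self _ _
  set q := Fintype.card K
  let Cf := {C : ConjClasses (Matrix.SpecialLinearGroup (Fin n) K) // Fixed c C}
  have hu : ∀ C : Cf, IsUnit
      ((C.1.exists_rep.choose : Matrix.SpecialLinearGroup (Fin n) K) : Matrix (Fin n) (Fin n) K) := fun C =>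
    (Matrix.isUnit_iff_isUnit_det _).2 (by rw [C.1.exists_rep.choose.2]; exact isUnit_one)
  let T : Cf → Fin n → K[X] := fun C => tup (repDecomp C.1)
  have hexp : ∀ C i, expand K e (contract e (T C i)) = T C i := fun C i => expand_tup he he0 C i
  have hdeg : ∀ C i, (T C i).natDegree = (contract e (T C i)).natDegree * e := fun C i => by
    conv_lhs => rw [← hexp C i, natDegree_expand]
  have hhigh : ∀ C (i : Fin n), m ≤ (i : ℕ) → (T C i).natDegree = 0 := by
    intro C i hi
    by_contra hne
    have h1 := Finset.single_le_sum (f := fun j : Fin n => ((j : ℕ) + 1) * (T C j).natDegree)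
      (fun _ _ => Nat.zero_le _) (Finset.mem_univ i)
    rw [(tup_mem (hu C) (repDecomp C.1)).2] at h1
    simp only [hdeg C i] at h1 hne
    have h2 : 0 < (contract e (T C i)).natDegree :=
      Nat.pos_of_ne_zero fun h => hne (by rw [h, zero_mul])
    have h3 : (m + 1) * e ≤ ((i : ℕ) + 1) * ((contract e (T C i)).natDegree * e) :=
      Nat.mul_le_mul (by omega) (Nat.le_mul_of_pos_left _ h2)
    have h4 : 0 < e := Nat.pos_of_ne_zero he0
    rw [Nat.add_mul, one_mul, hme] at h3
    omega
  let f : Cf → Tup K m m := fun C => ⟨fun i => contract e (T C (i.castLE hmn)), fun i => ⟨by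
      have h := ((tup_mem (hu C) (repDecomp C.1)).1 (i.castLE hmn)).1
      change (T C (i.castLE hmn)).Monic at h
      rwa [← hexp C, monic_expand_iff (Nat.pos_of_ne_zero he0)] at h, by
      rw [coeff_contract he0, zero_mul]
      exact ((tup_mem (hu C) (repDecomp C.1)).1 _).2⟩, by
      refine Nat.eq_of_mul_eq_mul_right (Nat.pos_of_ne_zero he0) ?_
      rw [Finset.sum_mul, hme]
      conv_rhs => rw [← (tup_mem (hu C) (repDecomp C.1)).2]
      rw [← Finset.sum_subset (Finset.subset_univ (univ.image (Fin.castLE hmn))) fun i _ hi => by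
          rw [hhigh C i (not_lt.1 fun hlt => hi (Finset.mem_image.2 ⟨⟨i, hlt⟩, mem_univ _, rfl⟩)), mul_zero],
        Finset.sum_image fun a _ b _ h => Fin.castLE_injective hmn h]
      exact Finset.sum_congr rfl fun i _ => by rw [mul_assoc, ← hdeg]; rfl⟩
  have hdete : ∀ C, dete e (f C).1 = 1 := by
    intro C
    have h := det_eq (repDecomp C.1)
    rw [C.1.exists_rep.choose.2] at h
    rw [h, ← Finset.prod_subset (Finset.subset_univ (univ.image (Fin.castLE hmn))) fun i _ hi => by
        have h0 : (T C i).natDegree = 0 :=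
          hhigh C i (not_lt.1 fun hlt => hi (Finset.mem_image.2 ⟨⟨i, hlt⟩, mem_univ _, rfl⟩))
        rw [show tup (repDecomp C.1) i = 1 from
          eq_one_of_monic_natDegree_zero ((tup_mem (hu C) (repDecomp C.1)).1 i).1 h0, ev_one, one_pow],
      Finset.prod_image fun a _ b _ h => Fin.castLE_injective hmn h]
    refine Finset.prod_congr rfl fun i _ => ?_
    show ((-1) ^ (e * (contract e (T C (i.castLE hmn))).natDegree) *
      (contract e (T C (i.castLE hmn))).coeff 0) ^ ((i : ℕ) + 1) = _
    rw [coeff_contract he0, zero_mul, mul_comm e, ← hdeg]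
    rfl
  have hsame : ∀ C C', f C = f C' → T C = T C' := by
    intro C C' h
    funext i
    rcases lt_or_ge (i : ℕ) m with hi | hi
    · have h1 : contract e (T C i) = contract e (T C' i) := congrFun (congrArg Subtype.val h) ⟨i, hi⟩
      rw [← hexp C i, ← hexp C' i]
      exact congrArg _ h1
    · exact (eq_one_of_monic_natDegree_zero ((tup_mem (hu C) (repDecomp C.1)).1 i).1 (hhigh C i hi)).trans
        (eq_one_of_monic_natDegree_zero ((tup_mem (hu C') (repDecomp C'.1)).1 i).1 (hhigh C' i hi)).symm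
  haveI := (card_tup (K := K) m m).1
  haveI : Fintype {b : Tup K m m // dete e b.1 = 1} := Fintype.ofFinite _
  let f' : Cf → {b : Tup K m m // dete e b.1 = 1} := fun C => ⟨f C, hdete C⟩
  have hfib : ∀ b, Nat.card {C : Cf // f' C = b} ≤ gS q (supp b.1.1) := by
    intro b
    rcases isEmpty_or_nonempty {C : Cf // f' C = b} with hemp | ⟨⟨C₀, hC₀⟩⟩
    · simp [Nat.card_of_isEmpty]
    set a₀ := C₀.1.exists_rep.choose
    have hex : ∀ C : {C : Cf // f' C = b}, ∃ h : GL (Fin n) K, (h : Matrix (Fin n) (Fin n) K) * (a₀ : Matrix (Fin n) (Fin n) K)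
        = ((C.1.1.exists_rep.choose : Matrix.SpecialLinearGroup (Fin n) K) : Matrix (Fin n) (Fin n) K) * h := by
      intro C
      obtain ⟨ε, hε⟩ := intertwine_of_tup (repDecomp C₀.1) (repDecomp C.1.1)
        (hsame C₀ C.1 (congrArg Subtype.val (hC₀.trans C.2.symm)))
      exact gl_of_equiv ε hε
    choose h hh using hex
    set R := (powMonoidHom (gS q (supp b.1.1)) : Kˣ →* Kˣ).range
    refine le_trans (Nat.card_le_card_of_injective
      (fun C => (QuotientGroup.mk (Matrix.GeneralLinearGroup.det (h C)) : Kˣ ⧸ R)) ?_) ?_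
    · intro C C' hCC
      have hmem := QuotientGroup.eq.1 hCC
      set a₀' := Matrix.SpecialLinearGroup.toGL a₀
      let Z := (Subgroup.centralizer ({a₀'} : Set (GL (Fin n) K))).map Matrix.GeneralLinearGroup.det
      have hZ : ∀ y, y ^ gS q (supp b.1.1) ∈ Z := by
        intro y
        obtain ⟨x, hx, hxp⟩ := exists_prod_pow (supp b.1.1) y
        rw [← hxp]
        refine prod_mem fun i _ => ?_
        by_cases hi : i ∈ supp b.1.1
        · have hpos : 0 < (T C₀ (i.castLE hmn)).natDegree := by
            simp only [supp, Finset.mem_filter] at hi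
            have h1 : b.1.1 i = contract e (T C₀ (i.castLE hmn)) :=
              congrFun (congrArg (fun t : {b : Tup K m m // dete e b.1 = 1} => t.1.1) hC₀.symm) i
            rw [h1] at hi
            rw [hdeg]
            exact Nat.mul_pos hi.2 (Nat.pos_of_ne_zero he0)
          obtain ⟨z, hz, hzd⟩ := exists_centralizer (repDecomp C₀.1) hpos ((x i : Kˣ) : K)
          have hzu : IsUnit z.det := by rw [hzd]; exact ((x i).isUnit).pow _
          refine ⟨Matrix.GeneralLinearGroup.mk'' z hzu, Subgroup.mem_centralizer_iff.2 fun g hg => ?_, ?_⟩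
          · rw [Set.mem_singleton_iff] at hg
            subst hg
            exact Units.ext hz.symm
          · refine Units.ext ?_
            rw [Units.val_pow_eq_pow_val]
            exact hzd
        · rw [hx i hi, one_pow]; exact one_mem Z
      obtain ⟨y, hy⟩ := hmem
      obtain ⟨z, hzc, hzd⟩ := hZ y
      rw [powMonoidHom_apply] at hy
      have hzc' := Subgroup.mem_centralizer_iff.1 hzc a₀' rfl
      set g := h C * z * (h C')⁻¹ with hg
      have hgd : (g : Matrix (Fin n) (Fin n) K).det = 1 := by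
        have h1 : Matrix.GeneralLinearGroup.det g = 1 := by
          rw [hg, map_mul, map_mul, map_inv, hzd, hy, mul_inv_cancel_left, mul_inv_cancel]
        exact congrArg Units.val h1
      refine Subtype.ext (Subtype.ext ?_)
      rw [← C.1.1.exists_rep.choose_spec, ← C'.1.1.exists_rep.choose_spec, eq_comm,
        ConjClasses.mk_eq_mk_iff_isConj, isConj_iff]
      let sg : Matrix.SpecialLinearGroup (Fin n) K := ⟨(g : Matrix (Fin n) (Fin n) K), hgd⟩
      have hsg : Matrix.SpecialLinearGroup.toGL sg = g := Units.ext rfl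
      refine ⟨sg, Matrix.SpecialLinearGroup.toGL_injective ?_⟩
      rw [MonoidHom.map_mul, MonoidHom.map_mul, MonoidHom.map_inv, hsg]
      set a := Matrix.SpecialLinearGroup.toGL C.1.1.exists_rep.choose
      set a' := Matrix.SpecialLinearGroup.toGL C'.1.1.exists_rep.choose
      have e1 : h C * a₀' = a * h C := Units.ext (hh C)
      have e2 : h C' * a₀' = a' * h C' := Units.ext (hh C')
      rw [mul_inv_eq_iff_eq_mul, hg,
        show a' = h C' * a₀' * (h C')⁻¹ by rw [e2, mul_inv_cancel_right]]
      calc h C * z * (h C')⁻¹ * (h C' * a₀' * (h C')⁻¹) = h C * (z * a₀') * (h C')⁻¹ := by group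
        _ = h C * (a₀' * z) * (h C')⁻¹ := by rw [hzc']
        _ = a * h C * z * (h C')⁻¹ := by rw [← e1]; group
        _ = a * (h C * z * (h C')⁻¹) := by group
    · show R.index ≤ _
      rw [IsCyclic.index_powMonoidHom_range, Nat.card_units, Nat.card_eq_fintype_card,
        Nat.gcd_eq_right (gS_dvd_sub q _)]
  refine le_trans ?_ ((weighted e m m).trans (sum_sq_le m hm0))
  refine Nat.mul_le_mul_left _ ?_
  rw [← Nat.card_congr (Equiv.sigmaFiberEquiv f'), Nat.card_sigma, Nat.card_sigma]
  exact Finset.sum_le_sum fun b _ => (hfib b).trans (by rw [Nat.card_fin])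

end Fixed

end CfsgLib.ClassNumberSL
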