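import Cfsg.Agent.Lib.KnownA.ClassNumberSL.Blocks

/-!
Elementary divisor decompositions: determinants, centralisers, uniqueness and scaling.
-/

set_option autoImplicit false

namespace CfsgLib.ClassNumberSL

open Polynomial CfsgLib.ClassNumberGL

attribute [local instance] CfsgLib.ClassNumberGL.Decomp.fι

variable {K : Type*} [Field K] {n : ℕ}

theorem C_smul_eq {M : Type*} [AddCommGroup M] [Module K M] [Module K[X] M] [IsScalarTower K K[X] M]
    (c : K) (x : M) : (C c) • x = c • x := algebraMap_smul K[X] c x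

section

variable {A : Matrix (Fin n) (Fin n) K}

/-- The decomposition as a map of vector spaces. -/
noncomputable def e0 (D : Decomp A) : (Fin n → K) ≃ₗ[K] ∀ j, Q (D.p j ^ D.e j) :=
  (Module.AEval'.of (Matrix.toLin' A)).trans
    { D.equiv.toAddEquiv with
      map_smul' := fun c x => by
        show D.equiv (c • x) = c • D.equiv x
        rw [← Module.AEval.C_smul, map_smul]
        refine funext fun j => ?_
        rw [Pi.smul_apply, Pi.smul_apply, C_smul_eq] }

theorem e0_apply (D : Decomp A) (x : Fin n → K) :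
    e0 D x = D.equiv (Module.AEval'.of (Matrix.toLin' A) x) := rfl

theorem e0_X (D : Decomp A) (x : Fin n → K) : e0 D (Matrix.toLin' A x) = (X : K[X]) • e0 D x := by
  rw [e0_apply, e0_apply, ← Module.AEval'.X_smul_of, map_smul]

theorem e0_aeval (D : Decomp A) (u : K[X]) (x : Fin n → K) :
    e0 D (aeval (Matrix.toLin' A) u x) = u • e0 D x := by
  rw [e0_apply, e0_apply, ← map_smul]
  congr 1

/-- A block map. -/
noncomputable def blockMap {ι : Type*} (P : ι → K[X]) (u : ι → K[X]) : (∀ j, Q (P j)) →ₗ[K] ∀ j, Q (P j) :=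
  LinearMap.pi fun j => (mu (P j) (u j)).comp (LinearMap.proj j)

theorem det_pi' {ι : Type*} [Fintype ι] {M : ι → Type*} [∀ i, AddCommGroup (M i)]
    [∀ i, Module K (M i)] [∀ i, Module.Finite K (M i)] (f : ∀ i, M i →ₗ[K] M i) :
    LinearMap.det (LinearMap.pi fun i => (f i).comp (LinearMap.proj i)) = ∏ i, LinearMap.det (f i) := by
  let : LinearOrder ι := LinearOrder.lift' (Fintype.equivFin ι) (Fintype.equivFin ι).injective
  let b := fun i => Module.Free.chooseBasis K (M i)
  rw [← LinearMap.det_toMatrix (Pi.basis b)]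
  simp_rw [← LinearMap.det_toMatrix (b _)]
  have h : LinearMap.toMatrix (Pi.basis b) (Pi.basis b) (LinearMap.pi fun i => (f i).comp (LinearMap.proj i)) =
      Matrix.blockDiagonal' fun i => LinearMap.toMatrix (b i) (b i) (f i) := by
    ext ⟨i, a⟩ ⟨j, c⟩
    rw [LinearMap.toMatrix_apply, Pi.basis_repr, LinearMap.pi_apply, LinearMap.comp_apply, LinearMap.proj_apply,
      Pi.basis_apply]
    rcases eq_or_ne i j with rfl | hij
    · rw [Pi.single_eq_same, Matrix.blockDiagonal'_apply_eq, LinearMap.toMatrix_apply]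
    · rw [Pi.single_eq_of_ne hij, map_zero, map_zero, Matrix.blockDiagonal'_apply_ne _ _ _ hij]
      rfl
  rw [h, Matrix.BlockTriangular.det_fintype (Matrix.blockTriangular_blockDiagonal' _)]
  refine Finset.prod_congr rfl fun i _ => ?_
  let e : {x : Σ j, Module.Free.ChooseBasisIndex K (M j) // x.1 = i} ≃ Module.Free.ChooseBasisIndex K (M i) :=
    Equiv.sigmaSubtype i
  rw [← Matrix.det_submatrix_equiv_self e]
  congr 1
  ext ⟨⟨j, a⟩, rfl⟩ ⟨⟨j', c⟩, h'⟩
  simp only at h'
  subst h'
  simp [Matrix.toSquareBlock_def, e, Equiv.sigmaSubtype, Matrix.blockDiagonal'_apply_eq]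

theorem det_blockMap [Finite K] (D : Decomp A) (u : D.ι → K[X]) :
    LinearMap.det (blockMap (fun j => D.p j ^ D.e j) u) =
      ∏ j, LinearMap.det (mu (D.p j) (u j)) ^ D.e j := by
  haveI : ∀ j, Module.Finite K (Q (D.p j ^ D.e j)) := fun j => finite_Q ((D.monic j).pow _)
  refine Eq.trans (det_pi' _) ?_
  exact Finset.prod_congr rfl fun j _ => det_mu_pow (D.monic j) _ _

theorem conj_blockMap (D : Decomp A) :
    Matrix.toLin' A = (e0 D).symm.toLinearMap ∘ₗ blockMap (fun j => D.p j ^ D.e j) (fun _ => X) ∘ₗ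
      (e0 D).toLinearMap := by
  refine LinearMap.ext fun x => (e0 D).injective ?_
  simp only [LinearMap.coe_comp, LinearEquiv.coe_coe, Function.comp_apply, LinearEquiv.apply_symm_apply, e0_X]
  exact funext fun j => (mu_eq_smul _ _ _).symm

theorem prod_pow_tup [Fintype K] (D : Decomp A) (f : K[X] → K)
    (hf : ∀ (s : Finset D.ι), f (∏ j ∈ s, D.p j) = ∏ j ∈ s, f (D.p j)) :
    ∏ i : Fin n, f (tup D i) ^ ((i : ℕ) + 1) = ∏ j, f (D.p j) ^ D.e j := by
  classical
  have hlt : ∀ j, D.e j - 1 < n := fun j => by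
    have h1 := Finset.single_le_sum (f := fun i => D.e i * (D.p i).natDegree)
      (fun _ _ => Nat.zero_le _) (Finset.mem_univ j)
    rw [decomp_degree D] at h1
    have := Nat.le_mul_of_pos_right (D.e j) (D.irr j).natDegree_pos
    have := D.pos j
    omega
  rw [← Finset.prod_fiberwise Finset.univ (fun j => (⟨D.e j - 1, hlt j⟩ : Fin n)) fun j => f (D.p j) ^ D.e j]
  refine Finset.prod_congr rfl fun i _ => ?_
  rw [tup, hf, ← Finset.prod_pow]
  refine Finset.prod_congr ?_ fun j hj => ?_
  · ext j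
    simp only [Finset.mem_filter, Finset.mem_univ, true_and, Fin.ext_iff]
    have := D.pos j; omega
  · simp only [Finset.mem_filter, Finset.mem_univ, true_and, Fin.ext_iff] at hj
    rw [← hj, Nat.sub_add_cancel (D.pos j)]

/-- The determinant in terms of the tuple. -/
theorem det_eq [Fintype K] (D : Decomp A) : A.det = ∏ i : Fin n, ev (tup D i) ^ ((i : ℕ) + 1) := by
  rw [← LinearMap.det_toLin', conj_blockMap D, show (e0 D).toLinearMap = (e0 D).symm.symm.toLinearMap from rfl,
    LinearMap.det_conj, det_blockMap, prod_pow_tup D ev fun s => ev_prod s _ fun j _ => D.monic j]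
  exact Finset.prod_congr rfl fun j _ => by rw [det_mu_X (D.monic j) (D.irr j)]

/-- Determinants of centralising elements. -/
theorem exists_centralizer [Fintype K] (D : Decomp A) {i : Fin n} (hi : 0 < (tup D i).natDegree) (x : K) :
    ∃ z : Matrix (Fin n) (Fin n) K, z * A = A * z ∧ z.det = x ^ ((i : ℕ) + 1) := by
  classical
  obtain ⟨j₀, hj₀⟩ : ∃ j, D.e j = (i : ℕ) + 1 := by
    by_contra hno
    push Not at hno
    rw [tup, Finset.prod_eq_one fun j hj => absurd (Finset.mem_filter.1 hj).2 (hno j), natDegree_one] at hi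
    exact lt_irrefl 0 hi
  obtain ⟨u, hu⟩ := exists_det_mu (D.monic j₀) (D.irr j₀) x
  let w : D.ι → K[X] := fun j => if j = j₀ then u else 1
  let Z : (Fin n → K) →ₗ[K] (Fin n → K) :=
    (e0 D).symm.toLinearMap ∘ₗ blockMap (fun j => D.p j ^ D.e j) w ∘ₗ (e0 D).toLinearMap
  refine ⟨LinearMap.toMatrix' Z, Matrix.toLin'.injective ?_, ?_⟩
  · rw [Matrix.toLin'_mul, Matrix.toLin'_mul, Matrix.toLin'_toMatrix']
    refine LinearMap.ext fun v => (e0 D).injective ?_
    simp only [Z, LinearMap.coe_comp, LinearEquiv.coe_coe, Function.comp_apply, LinearEquiv.apply_symm_apply,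
      e0_X]
    refine funext fun j => ?_
    show mu _ (w j) ((X : K[X]) • e0 D v j) = (X : K[X]) • mu _ (w j) (e0 D v j)
    rw [mu_eq_smul, mu_eq_smul, smul_comm]
  · rw [← LinearMap.det_toLin', Matrix.toLin'_toMatrix',
      show Z = (e0 D).symm.toLinearMap ∘ₗ blockMap (fun j => D.p j ^ D.e j) w ∘ₗ
        (e0 D).symm.symm.toLinearMap from rfl,
      LinearMap.det_conj, det_blockMap, Finset.prod_eq_single j₀]
    · simp only [w, if_pos, hu, hj₀]
    · intro j _ hj
      rw [show w j = 1 from if_neg hj, show mu (D.p j) 1 = LinearMap.id from LinearMap.ext fun y => by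
        rw [mu_eq_smul, one_smul]; rfl, LinearMap.det_id, one_pow]
    · simp

/-- A decomposition from a map of vector spaces. -/
noncomputable def mkDecomp {ι : Type} [Fintype ι] (p : ι → K[X]) (e : ι → ℕ) (hm : ∀ j, (p j).Monic)
    (hi : ∀ j, Irreducible (p j)) (he : ∀ j, 0 < e j) (φ : (Fin n → K) ≃ₗ[K] ∀ j, Q (p j ^ e j))
    (hφ : ∀ x, φ (Matrix.toLin' A x) = (X : K[X]) • φ x) : Decomp A where
  ι := ι
  fι := inferInstance
  p := p
  e := e
  monic := hm
  irr := hi
  pos := he
  equiv :=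
    { ((Module.AEval'.of (Matrix.toLin' A)).symm.trans φ).toAddEquiv with
      map_smul' := fun u x => by
        show φ ((Module.AEval'.of (Matrix.toLin' A)).symm (u • x)) =
          u • φ ((Module.AEval'.of (Matrix.toLin' A)).symm x)
        rw [Module.AEval.of_symm_smul, Module.End.smul_def]
        generalize (Module.AEval'.of (Matrix.toLin' A)).symm x = v
        induction u using Polynomial.induction_on generalizing v with
        | C a => simp [aeval_C, Module.algebraMap_end_apply, map_smul, funext_iff, C_smul_eq]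
        | add a b ha hb =>
          rw [map_add, LinearMap.add_apply, map_add, ha, hb]
          exact funext fun j => (add_smul a b (φ v j)).symm
        | monomial k a ih =>
          rw [show (C a : K[X]) * X ^ (k + 1) = (C a * X ^ k) * X by rw [pow_succ, mul_assoc], map_mul,
            Module.End.mul_apply, aeval_X, ih, hφ]
          exact funext fun j => (smul_smul (C a * X ^ k) (X : K[X]) (φ v j)) }

end

theorem natCard_ker [Fintype K] {p : K[X]} (hp : p.Monic) (e k : ℕ) :
    Nat.card {x : Q (p ^ e) // (p ^ k) • x = 0} = Fintype.card K ^ (p.natDegree * min k e) := by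
  set m := min k e
  have hme : m ≤ e := min_le_right _ _
  have hsplit : p ^ (e - m) * p ^ m = p ^ e := by rw [← pow_add, Nat.sub_add_cancel hme]
  have hiff : ∀ y : K[X], p ^ e ∣ p ^ k * y ↔ p ^ (e - m) ∣ y := by
    intro y
    rcases le_total k e with h | h
    · rw [show m = k from min_eq_left h]
      conv_lhs => rw [show e = k + (e - k) by omega, pow_add]
      exact mul_dvd_mul_iff_left (hp.pow k).ne_zero
    · rw [show e - m = 0 by omega, pow_zero]
      exact iff_of_true (dvd_mul_of_dvd_left (pow_dvd_pow p h) y) (one_dvd y)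
  let ι : Q (p ^ m) → {x : Q (p ^ e) // (p ^ k) • x = 0} := fun y =>
    ⟨Submodule.mapQ (Ideal.span {p ^ m}) (Ideal.span {p ^ e}) (LinearMap.mulLeft K[X] (p ^ (e - m)))
      (fun x hx => by
        rw [Submodule.mem_comap, LinearMap.mulLeft_apply, Ideal.mem_span_singleton, ← hsplit]
        rw [Ideal.mem_span_singleton] at hx
        exact mul_dvd_mul_left _ hx) y, by
      obtain ⟨y, rfl⟩ := Ideal.Quotient.mk_surjective y
      show Ideal.Quotient.mk _ (p ^ k * (p ^ (e - m) * y)) = 0
      rw [mk_eq_zero_iff, hiff]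
      exact dvd_mul_right _ _⟩
  have hι : Function.Bijective ι := by
    constructor
    · intro a b hab
      obtain ⟨a, rfl⟩ := Ideal.Quotient.mk_surjective a
      obtain ⟨b, rfl⟩ := Ideal.Quotient.mk_surjective b
      have h : Ideal.Quotient.mk (Ideal.span {p ^ e}) (p ^ (e - m) * a) = Ideal.Quotient.mk _ (p ^ (e - m) * b) :=
        congrArg Subtype.val hab
      rw [mk_eq_mk_iff, ← mul_sub, ← hsplit, mul_dvd_mul_iff_left (hp.pow _).ne_zero] at h
      exact (mk_eq_mk_iff _ _ _).2 h
    · rintro ⟨x, hx⟩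
      obtain ⟨x, rfl⟩ := Ideal.Quotient.mk_surjective x
      have hx' : Ideal.Quotient.mk (Ideal.span {p ^ e}) (p ^ k * x) = 0 := hx
      rw [mk_eq_zero_iff, hiff] at hx'
      obtain ⟨y, rfl⟩ := hx'
      exact ⟨Ideal.Quotient.mk _ y, Subtype.ext rfl⟩
  rw [← Nat.card_congr (Equiv.ofBijective ι hι), (natCard_quot (hp.pow m)).2, hp.natDegree_pow, mul_comm]

theorem natCard_ker_of_ne [Fintype K] {p r : K[X]} (hp : p.Monic) (hpi : Irreducible p) (hr : r.Monic)
    (hri : Irreducible r) (hne : r ≠ p) (e k : ℕ) :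
    Nat.card {x : Q (r ^ e) // (p ^ k) • x = 0} = 1 := by
  have hco : IsCoprime (r ^ e) (p ^ k) := ((hri.coprime_iff_not_dvd.2 fun h =>
    hne (eq_of_monic_of_associated hr hp (hri.associated_of_dvd hpi h)))).pow
  refine Nat.card_eq_one_iff_unique.2 ⟨⟨fun a b => ?_⟩, ⟨0, smul_zero _⟩⟩
  suffices h : ∀ a : {x : Q (r ^ e) // (p ^ k) • x = 0}, a.1 = 0 from Subtype.ext ((h a).trans (h b).symm)
  rintro ⟨x, hx⟩
  obtain ⟨x, rfl⟩ := Ideal.Quotient.mk_surjective x
  have hx' : Ideal.Quotient.mk (Ideal.span {r ^ e}) (p ^ k * x) = 0 := hx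
  rw [mk_eq_zero_iff] at hx'
  exact (mk_eq_zero_iff _ _).2 (hco.dvd_of_dvd_mul_left hx')

variable {A B : Matrix (Fin n) (Fin n) K}

theorem natCard_ker_decomp [Fintype K] [DecidableEq K[X]] (D : Decomp A) {p : K[X]} (hp : p.Monic)
    (hpi : Irreducible p) (k : ℕ) :
    Nat.card {v : Fin n → K // aeval (Matrix.toLin' A) (p ^ k) v = 0} =
      Fintype.card K ^ (p.natDegree * ∑ j ∈ Finset.univ.filter (fun j => D.p j = p), min k (D.e j)) := by
  classical
  let ε : {v : Fin n → K // aeval (Matrix.toLin' A) (p ^ k) v = 0} ≃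
      ∀ j, {x : Q (D.p j ^ D.e j) // (p ^ k) • x = 0} :=
    ((e0 D).toEquiv.subtypeEquiv (fun v => by
      show _ ↔ ∀ j, (p ^ k) • (e0 D v j) = 0
      rw [show (∀ j, (p ^ k) • (e0 D v j) = 0) ↔ (p ^ k) • e0 D v = 0 from ⟨funext, congrFun⟩,
        ← e0_aeval, LinearEquiv.map_eq_zero_iff])).trans
      Equiv.subtypePiEquivPi
  rw [Nat.card_congr ε, Nat.card_pi, Finset.mul_sum, ← Finset.prod_pow_eq_pow_sum, Finset.prod_filter]
  refine Finset.prod_congr rfl fun j _ => ?_
  split_ifs with h
  · subst h; exact natCard_ker (D.monic j) _ _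
  · exact natCard_ker_of_ne hp hpi (D.monic j) (D.irr j) h _ _

/-- The tuple depends only on the similarity class. -/
theorem tup_eq [Fintype K] (D : Decomp A) (E : Decomp B) (e : (Fin n → K) ≃ₗ[K] (Fin n → K))
    (he : ∀ x, e (Matrix.toLin' A x) = Matrix.toLin' B (e x)) : tup D = tup E := by
  classical
  have hae : ∀ (u : K[X]) x, e (aeval (Matrix.toLin' A) u x) = aeval (Matrix.toLin' B) u (e x) := by
    intro u
    induction u using Polynomial.induction_on with
    | C a => intro x; simp [aeval_C, Module.algebraMap_end_apply]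
    | add a b ha hb => intro x; simp [map_add, LinearMap.add_apply, ha x, hb x]
    | monomial k a ih =>
      intro x
      rw [show (C a : K[X]) * X ^ (k + 1) = (C a * X ^ k) * X by rw [pow_succ, mul_assoc],
        map_mul (aeval (Matrix.toLin' A)) (C a * X ^ k), map_mul (aeval (Matrix.toLin' B)) (C a * X ^ k),
        Module.End.mul_apply, Module.End.mul_apply, aeval_X, aeval_X, ih, he]
  funext i
  rw [tup, tup, Finset.prod_eq_multiset_prod, Finset.prod_eq_multiset_prod]
  congr 1
  ext p
  simp only [Multiset.count_map, ← Finset.filter_val, ← Finset.card_def, Finset.filter_filter]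
  by_cases hp : p.Monic ∧ Irreducible p
  swap
  · rw [Finset.filter_false_of_mem, Finset.filter_false_of_mem]
    · rfl
    · intro j _ hj; exact hp (hj.2 ▸ ⟨E.monic j, E.irr j⟩)
    · intro j _ hj; exact hp (hj.2 ▸ ⟨D.monic j, D.irr j⟩)
  obtain ⟨hp, hpi⟩ := hp
  have hd : 0 < p.natDegree := hpi.natDegree_pos
  have hS : ∀ k, ∑ j ∈ Finset.univ.filter (fun j => D.p j = p), min k (D.e j) =
      ∑ j ∈ Finset.univ.filter (fun j => E.p j = p), min k (E.e j) := by
    intro k
    have h := Nat.card_congr (e.toEquiv.subtypeEquiv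
      (p := fun v => aeval (Matrix.toLin' A) (p ^ k) v = 0) (q := fun v => aeval (Matrix.toLin' B) (p ^ k) v = 0)
      fun v => by
        show _ ↔ aeval (Matrix.toLin' B) (p ^ k) (e v) = 0
        rw [← hae, LinearEquiv.map_eq_zero_iff])
    rw [natCard_ker_decomp D hp hpi, natCard_ker_decomp E hp hpi] at h
    exact Nat.eq_of_mul_eq_mul_left hd (Nat.pow_right_injective Fintype.one_lt_card h)
  have key : ∀ {C : Matrix (Fin n) (Fin n) K} (D : Decomp C),
      (Finset.univ.filter fun j => D.e j = (i : ℕ) + 1 ∧ p = D.p j).card +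
          ∑ j ∈ Finset.univ.filter (fun j => D.p j = p), min (i : ℕ) (D.e j) +
          ∑ j ∈ Finset.univ.filter (fun j => D.p j = p), min ((i : ℕ) + 2) (D.e j) =
        2 * ∑ j ∈ Finset.univ.filter (fun j => D.p j = p), min ((i : ℕ) + 1) (D.e j) := by
    intro C D
    rw [Finset.card_filter, Finset.sum_filter, Finset.sum_filter, Finset.sum_filter, Finset.mul_sum,
      ← Finset.sum_add_distrib, ← Finset.sum_add_distrib]
    refine Finset.sum_congr rfl fun j _ => ?_
    by_cases hj : D.p j = p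
    · simp only [hj, if_true, and_true]
      split_ifs <;> omega
    · simp [hj, Ne.symm hj]
  have h1 := key D
  have h2 := key E
  rw [hS, hS, hS] at h1
  omega

/-- The substitution `X ↦ X / c`. -/
noncomputable def sub (c : Kˣ) : K[X] ≃ₐ[K] K[X] :=
  algEquivOfCompEqX (C ((c⁻¹ : Kˣ) : K) * X) (C (c : K) * X) (by simp [← mul_assoc, ← C_mul])
    (by simp [← mul_assoc, ← C_mul])

theorem sub_X (c : Kˣ) : sub c X = C ((c⁻¹ : Kˣ) : K) * X := by simp [sub, algEquivOfCompEqX]

theorem scaleRoots_eq (c : Kˣ) (P : K[X]) : P.scaleRoots (c : K) = C ((c : K) ^ P.natDegree) * sub c P := by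
  ext i
  rw [coeff_scaleRoots, coeff_C_mul,
    show sub c P = P.comp (C ((c⁻¹ : Kˣ) : K) * X) by simp [sub, algEquivOfCompEqX, comp_eq_aeval],
    comp_C_mul_X_coeff]
  rcases le_or_gt i P.natDegree with hi | hi
  · conv_rhs => rw [← Nat.sub_add_cancel hi, pow_add]
    have hc : (c : K) ^ i * ((c⁻¹ : Kˣ) : K) ^ i = 1 := by rw [← mul_pow, Units.mul_inv, one_pow]
    linear_combination (-(P.coeff i * (c : K) ^ (P.natDegree - i))) * hc
  · rw [coeff_eq_zero_of_natDegree_lt hi]; ring

theorem associated_sub (c : Kˣ) (P : K[X]) : Associated (sub c P) (P.scaleRoots (c : K)) :=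
  ⟨(isUnit_C.2 ((c.isUnit).pow P.natDegree)).unit, by rw [IsUnit.unit_spec, scaleRoots_eq, mul_comm]⟩

theorem irreducible_scaleRoots (c : Kˣ) {P : K[X]} (hP : Irreducible P) : Irreducible (P.scaleRoots (c : K)) :=
  (associated_sub c P).irreducible ((MulEquiv.irreducible_iff (sub c)).2 hP)

theorem prod_scaleRoots {ι : Type*} (s : Finset ι) (P : ι → K[X]) (c : K) :
    (∏ j ∈ s, P j).scaleRoots c = ∏ j ∈ s, (P j).scaleRoots c := by
  classical
  induction s using Finset.induction_on with
  | empty => simp [one_scaleRoots]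
  | @insert a s ha ih => rw [Finset.prod_insert ha, Finset.prod_insert ha, mul_scaleRoots_of_noZeroDivisors, ih]

/-- Scaling the matrix scales the roots in the tuple. -/
theorem exists_smul_decomp (D : Decomp A) (c : Kˣ) :
    ∃ D' : Decomp ((c : K) • A), ∀ i, tup D' i = (tup D i).scaleRoots (c : K) := by
  classical
  have hspan : ∀ j, Ideal.span {(D.p j).scaleRoots (c : K) ^ D.e j} =
      (Ideal.span {D.p j ^ D.e j}).map (sub c : K[X] →+* K[X]) := fun j => by
    rw [Ideal.map_span, Set.image_singleton]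
    rw [Ideal.span_singleton_eq_span_singleton]
    refine ((associated_sub c (D.p j)).symm.pow_pow).trans (Associated.of_eq ?_)
    show sub c (D.p j) ^ D.e j = sub c (D.p j ^ D.e j)
    rw [map_pow]
  let τ : ∀ j, Q (D.p j ^ D.e j) ≃ₐ[K] Q ((D.p j).scaleRoots (c : K) ^ D.e j) :=
    fun j => Ideal.quotientEquivAlg _ _ (sub c) (hspan j)
  refine ⟨mkDecomp (fun j => (D.p j).scaleRoots (c : K)) D.e (fun j => (monic_scaleRoots_iff _).2 (D.monic j))
    (fun j => irreducible_scaleRoots c (D.irr j)) D.pos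
    ((e0 D).trans (LinearEquiv.piCongrRight fun j => (τ j).toLinearEquiv)) ?_, fun i => ?_⟩
  · intro x
    simp only [LinearEquiv.trans_apply, map_smul, LinearMap.smul_apply, e0_X]
    refine funext fun j => ?_
    show (c : K) • τ j ((X : K[X]) • e0 D x j) = (X : K[X]) • τ j (e0 D x j)
    generalize e0 D x j = y
    obtain ⟨y, rfl⟩ := Ideal.Quotient.mk_surjective y
    show (c : K) • Ideal.Quotient.mk (Ideal.span {(D.p j).scaleRoots (c : K) ^ D.e j}) (sub c (X * y)) =
      Ideal.Quotient.mk _ (X * sub c y)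
    rw [← C_smul_eq (c : K)]
    show Ideal.Quotient.mk _ (C (c : K) * sub c (X * y)) = _
    rw [map_mul (sub c), sub_X, ← mul_assoc, ← mul_assoc, ← C_mul, Units.mul_inv, C_1, one_mul]
  · rw [tup, tup, prod_scaleRoots]
    rfl

end CfsgLib.ClassNumberSL
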