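import Cfsg.Agent.Lib.KnownA.ClassNumberSL.Count

/-!
Numerical bounds for the weighted count `E`.
-/

set_option autoImplicit false

namespace CfsgLib.ClassNumberSL

open Finset CfsgLib.ClassNumberGL

theorem E_one (q : ℕ) : E q 1 = q - 1 := by
  simp [E, dset, F, wt, sum_range_succ]

theorem mem_dset {q n d : ℕ} : d ∈ dset q n ↔ (2 ≤ d ∧ d ≤ n) ∧ d ∣ n ∧ d ∣ q - 1 := by
  simp [dset]

theorem dset_subset_divisors (q n : ℕ) : dset q n ⊆ n.divisors.erase 1 := by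
  intro d hd
  rw [mem_dset] at hd
  rw [mem_erase, Nat.mem_divisors]
  exact ⟨by omega, hd.2.1, by omega⟩

theorem le_of_mem_dset {q n d : ℕ} (hq : 2 ≤ q) (hd : d ∈ dset q n) : d + 1 ≤ q := by
  rw [mem_dset] at hd
  have := Nat.le_of_dvd (by omega) hd.2.2
  omega

theorem E_two (q : ℕ) (hq : 2 ≤ q) : E q 2 ≤ (q - 1) * (q + 4) ∧ (q = 2 → E q 2 ≤ 3) := by
  have hsum : ∑ d ∈ dset q 2, (d ^ 2 - 1) * F q (2 / d) (2 / d) ≤ 3 * (q - 1) := by
    refine (sum_le_sum_of_subset (t := {2}) fun d hd => ?_).trans ?_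
    · rw [mem_dset] at hd; simp; omega
    · simp [F, wt, sum_range_succ]
  have hF : F q 2 2 = (q - 1) * (q + 1) := by
    simp [F, wt, sum_range_succ]; ring
  refine ⟨?_, fun h => ?_⟩
  · calc E q 2 ≤ (q - 1) * (q + 1) + 3 * (q - 1) := Nat.add_le_add hF.le hsum
      _ = (q - 1) * (q + 4) := by ring
  · subst h
    have h0 : dset 2 2 = ∅ := by decide
    simp [E, h0, hF]

theorem E_three (q : ℕ) (hq : 2 ≤ q) : E q 3 ≤ (q - 1) * (q ^ 2 + 3 * q) := by
  have hF : F q 3 3 = (q - 1) * (q ^ 2 + q) := by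
    obtain ⟨p, rfl⟩ : ∃ p, q = p + 2 := ⟨q - 2, by omega⟩
    simp [F, wt, sum_range_succ]; ring
  have hsum : ∑ d ∈ dset q 3, (d ^ 2 - 1) * F q (3 / d) (3 / d) ≤ (q - 1) * (2 * q) := by
    rcases (dset q 3).eq_empty_or_nonempty with h | ⟨d, hd⟩
    · simp [h]
    · have h3 : d = 3 := by
        obtain ⟨_, _⟩ := (mem_dset.1 hd).1
        have := (mem_dset.1 hd).2.1
        interval_cases d <;> simp_all
      have := le_of_mem_dset hq hd
      refine (sum_le_sum_of_subset (t := {3}) fun x hx => ?_).trans ?_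
      · obtain ⟨_, _⟩ := (mem_dset.1 hx).1
        have := (mem_dset.1 hx).2.1
        interval_cases x <;> simp_all
      · simp [F, wt, sum_range_succ]
        rw [mul_comm (q - 1)]
        exact Nat.mul_le_mul_right _ (by omega)
  calc E q 3 ≤ (q - 1) * (q ^ 2 + q) + (q - 1) * (2 * q) := Nat.add_le_add hF.le hsum
    _ = (q - 1) * (q ^ 2 + 3 * q) := by ring

theorem three_sum_sq_le (q : ℕ) : 3 * ∑ d ∈ range q, d ^ 2 ≤ q ^ 3 := by
  induction q with
  | zero => simp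
  | succ q ih =>
    rw [sum_range_succ, show (q + 1) ^ 3 = q ^ 3 + 3 * q ^ 2 + (3 * q + 1) by ring]
    omega

theorem sum_dset_le (q n : ℕ) (hq : 2 ≤ q) :
    ∑ d ∈ dset q n, (d ^ 2 - 1) * F q (n / d) (n / d) ≤ ∑ d ∈ dset q n, (d ^ 2 - 1) * q ^ (n / d) :=
  sum_le_sum fun _ _ => Nat.mul_le_mul_left _ (F_self_le q (by omega) _)

theorem sum_dset_bound (q n : ℕ) (hq : 2 ≤ q) (hn : 4 ≤ n) :
    ∑ d ∈ dset q n, (d ^ 2 - 1) * q ^ (n / d) ≤ (2 * q - 3) * q ^ (n - 2) := by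
  rcases (dset q n).eq_empty_or_nonempty with h | ⟨d₀, hd₀⟩
  · simp [h]
  have hq3 : 3 ≤ q := by
    have := le_of_mem_dset hq hd₀
    obtain ⟨_, _⟩ := (mem_dset.1 hd₀).1
    omega
  rcases (by omega : n = 4 ∨ n = 5 ∨ 6 ≤ n) with rfl | rfl | hn6
  · rcases (by omega : q = 3 ∨ q = 4 ∨ 5 ≤ q) with rfl | rfl | h5
    · have h0 : dset 3 4 = {2} := by decide
      simp [h0]
    · have h0 : dset 4 4 = ∅ := by decide
      simp [h0]
    · refine (sum_le_sum_of_subset (t := {2, 4}) fun d hd => ?_).trans ?_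
      · obtain ⟨_, _⟩ := (mem_dset.1 hd).1
        have := (mem_dset.1 hd).2.1
        interval_cases d <;> simp_all
      · simp
        have h2 : 7 ≤ 2 * q - 3 := by omega
        have h3 := Nat.mul_le_mul h2 (le_refl (q ^ 2))
        have h4 : 5 * q ≤ q ^ 2 := by rw [sq]; exact Nat.mul_le_mul_right q h5
        omega
  · have h6 : 6 ≤ q := by
      have := le_of_mem_dset hq hd₀
      obtain ⟨_, _⟩ := (mem_dset.1 hd₀).1
      have := (mem_dset.1 hd₀).2.1
      interval_cases d₀ <;> simp_all <;> omega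
    refine (sum_le_sum_of_subset (t := {5}) fun d hd => ?_).trans ?_
    · obtain ⟨_, _⟩ := (mem_dset.1 hd).1
      have := (mem_dset.1 hd).2.1
      interval_cases d <;> simp_all
    · simp
      calc 24 * q ≤ (q * q) * q := Nat.mul_le_mul_right q ((by norm_num : 24 ≤ 6 * 6).trans (Nat.mul_le_mul h6 h6))
        _ = 1 * q ^ 3 := by ring
        _ ≤ (2 * q - 3) * q ^ 3 := Nat.mul_le_mul_right _ (by omega)
  · have hterm : ∀ d ∈ dset q n, (d ^ 2 - 1) * q ^ (n / d) ≤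
        (if d = 2 then 3 * q ^ (n / 2) else 0) + d ^ 2 * q ^ (n / 3) := by
      intro d hd
      split_ifs with h
      · subst h; omega
      · rw [zero_add]
        obtain ⟨_, _⟩ := (mem_dset.1 hd).1
        exact Nat.mul_le_mul (Nat.sub_le _ _)
          (Nat.pow_le_pow_right (by omega) (Nat.div_le_div_left (by omega) (by norm_num)))
    refine Nat.le_of_mul_le_mul_left ?_ (by norm_num : 0 < 3)
    refine (Nat.mul_le_mul_left 3 (sum_le_sum hterm)).trans ?_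
    rw [sum_add_distrib, Nat.mul_add]
    have h1 : ∑ d ∈ dset q n, (if d = 2 then 3 * q ^ (n / 2) else 0) ≤ 3 * q ^ (n - 3) := by
      rw [sum_ite_eq' (dset q n) 2 fun _ => 3 * q ^ (n / 2)]
      split_ifs
      · exact Nat.mul_le_mul_left _ (Nat.pow_le_pow_right (by omega) (by omega))
      · exact Nat.zero_le _
    have h2 : 3 * ∑ d ∈ dset q n, d ^ 2 * q ^ (n / 3) ≤ q ^ (n - 1) := by
      rw [← sum_mul, ← mul_assoc]
      refine (Nat.mul_le_mul_right _ ((Nat.mul_le_mul_left 3 (sum_le_sum_of_subset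
        (t := range q) fun d hd => mem_range.2 (le_of_mem_dset hq hd))).trans (three_sum_sq_le q))).trans ?_
      rw [← pow_add]
      exact Nat.pow_le_pow_right (by omega) (by omega)
    refine (Nat.add_le_add (Nat.mul_le_mul_left 3 h1) h2).trans ?_
    obtain ⟨k, rfl⟩ : ∃ k, n = k + 6 := ⟨n - 6, by omega⟩
    obtain ⟨p, rfl⟩ : ∃ p, q = p + 3 := ⟨q - 3, by omega⟩
    rw [show k + 6 - 3 = k + 3 by omega, show k + 6 - 1 = (k + 3) + 2 by omega,
      show k + 6 - 2 = (k + 3) + 1 by omega, show 2 * (p + 3) - 3 = 2 * p + 3 by omega, pow_add _ (k + 3) 2, pow_add _ (k + 3) 1]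
    calc 3 * (3 * (p + 3) ^ (k + 3)) + (p + 3) ^ (k + 3) * (p + 3) ^ 2
        = (9 + (p + 3) ^ 2) * (p + 3) ^ (k + 3) := by ring
      _ ≤ (3 * (2 * p + 3) * (p + 3)) * (p + 3) ^ (k + 3) := Nat.mul_le_mul_right _ (by nlinarith)
      _ = 3 * ((2 * p + 3) * ((p + 3) ^ (k + 3) * (p + 3) ^ 1)) := by ring

theorem E_le (q n : ℕ) (hq : 2 ≤ q) (hn : 3 ≤ n) :
    E q n ≤ (q - 1) * (q ^ (n - 1) + 3 * q ^ (n - 2)) := by
  rcases (by omega : n = 3 ∨ 4 ≤ n) with rfl | hn4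
  · simpa using E_three q hq
  · refine (Nat.add_le_add (F_self_le q (by omega) n) ((sum_dset_le q n hq).trans (sum_dset_bound q n hq hn4))).trans ?_
    obtain ⟨k, rfl⟩ : ∃ k, n = k + 2 := ⟨n - 2, by omega⟩
    obtain ⟨p, rfl⟩ : ∃ p, q = p + 2 := ⟨q - 2, by omega⟩
    rw [show k + 2 - 1 = k + 1 by omega, show k + 2 - 2 = k by omega, show p + 2 - 1 = p + 1 by omega,
      show 2 * (p + 2) - 3 = 2 * p + 1 by omega]
    exact le_of_eq (by ring)

theorem two_E_le (q n : ℕ) (hq : 2 ≤ q) (hn : 1 ≤ n) : 2 * E q n ≤ (q - 1) * (5 * q ^ (n - 1)) := by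
  rcases (by omega : n = 1 ∨ n = 2 ∨ 3 ≤ n) with rfl | rfl | hn3
  · rw [E_one]; simp; omega
  · rcases (by omega : q = 2 ∨ 3 ≤ q) with rfl | h3
    · have := (E_two 2 le_rfl).2 rfl
      simp; omega
    · refine (Nat.mul_le_mul_left 2 (E_two q hq).1).trans ?_
      rw [Nat.mul_left_comm]
      exact Nat.mul_le_mul_left _ (by simp; omega)
  · refine (Nat.mul_le_mul_left 2 (E_le q n hq hn3)).trans ?_
    rw [Nat.mul_left_comm]
    refine Nat.mul_le_mul_left _ ?_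
    obtain ⟨k, rfl⟩ : ∃ k, n = k + 2 := ⟨n - 2, by omega⟩
    rw [show k + 2 - 1 = k + 1 by omega, show k + 2 - 2 = k by omega, pow_succ]
    have := Nat.mul_le_mul_left (q ^ k) hq
    omega

end CfsgLib.ClassNumberSL
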