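import Cfsg.Agent.Lib.KnownA.ClassNumberSL.Classes
import Cfsg.Agent.Lib.KnownA.ClassNumberSL.Numeric
import Cfsg.Agent.Lib.KnownA.SemisimpleClassesMatrix

/-!
The class numbers of `SL n` and `PSL n`.
-/

set_option autoImplicit false

namespace CfsgLib.ClassNumberSL

open Polynomial Finset

section Generic

variable {G : Type*} [Group G]

/-- Translation of classes by a central element. -/
noncomputable def shift (z : Subgroup.center G) : ConjClasses G → ConjClasses G :=
  Quotient.lift (fun a => ConjClasses.mk ((z : G) * a)) fun a b (h : IsConj a b) => by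
    obtain ⟨g, rfl⟩ := isConj_iff.1 h
    rw [ConjClasses.mk_eq_mk_iff_isConj, isConj_iff]
    exact ⟨g, by rw [← mul_assoc g, Subgroup.mem_center_iff.1 z.2 g]; group⟩

theorem shift_mk (z : Subgroup.center G) (a : G) :
    shift z (ConjClasses.mk a) = ConjClasses.mk ((z : G) * a) := rfl

/-- Orbit counting for the translation action of the center on classes. -/
theorem card_center_mul_card_conjClasses [Finite G] [Fintype (Subgroup.center G)] :
    Nat.card (Subgroup.center G) * Nat.card (ConjClasses (G ⧸ Subgroup.center G)) =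
      ∑ z : Subgroup.center G, Nat.card {C : ConjClasses G // shift z C = C} := by
  classical
  letI : MulAction (Subgroup.center G) (ConjClasses G) :=
    { smul := shift
      one_smul := fun C => by
        obtain ⟨a, rfl⟩ := ConjClasses.mk_surjective C
        show ConjClasses.mk _ = _
        rw [Subgroup.coe_one, one_mul]
      mul_smul := fun z w C => by
        obtain ⟨a, rfl⟩ := ConjClasses.mk_surjective C
        show ConjClasses.mk _ = ConjClasses.mk _
        rw [Subgroup.coe_mul, mul_assoc] }
  haveI := Fintype.ofFinite (ConjClasses G)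
  haveI := Fintype.ofFinite (MulAction.orbitRel.Quotient (Subgroup.center G) (ConjClasses G))
  let π := QuotientGroup.mk' (Subgroup.center G)
  let f : MulAction.orbitRel.Quotient (Subgroup.center G) (ConjClasses G) →
      ConjClasses (G ⧸ Subgroup.center G) :=
    Quotient.lift (ConjClasses.map π) fun C D (h : C ∈ MulAction.orbit (Subgroup.center G) D) => by
      obtain ⟨z, rfl⟩ := h
      obtain ⟨a, rfl⟩ := ConjClasses.mk_surjective D
      show ConjClasses.mk (π ((z : G) * a)) = ConjClasses.mk (π a)
      rw [map_mul, show π (z : G) = 1 from (QuotientGroup.eq_one_iff _).2 z.2, one_mul]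
  have hf : Function.Bijective f := by
    refine ⟨?_, fun D => ?_⟩
    · intro C D h
      induction C using Quotient.inductionOn' with | h C => ?_
      induction D using Quotient.inductionOn' with | h D => ?_
      obtain ⟨a, rfl⟩ := ConjClasses.mk_surjective C
      obtain ⟨b, rfl⟩ := ConjClasses.mk_surjective D
      change ConjClasses.mk (π a) = ConjClasses.mk (π b) at h
      rw [ConjClasses.mk_eq_mk_iff_isConj, isConj_iff] at h
      obtain ⟨x, hx⟩ := h
      obtain ⟨g, rfl⟩ := QuotientGroup.mk'_surjective (Subgroup.center G) x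
      rw [← map_inv, ← map_mul, ← map_mul] at hx
      have hz : b⁻¹ * (g * a * g⁻¹) ∈ Subgroup.center G := QuotientGroup.eq.1 hx.symm
      refine Quotient.sound' ⟨⟨_, hz⟩, ?_⟩
      show ConjClasses.mk _ = ConjClasses.mk a
      rw [ConjClasses.mk_eq_mk_iff_isConj, ← (Subgroup.mem_center_iff.1 hz b), mul_inv_cancel_left]
      exact (isConj_iff.2 ⟨g, rfl⟩).symm
    · obtain ⟨C, rfl⟩ := ConjClasses.map_surjective (f := π) (QuotientGroup.mk'_surjective _) D
      exact ⟨Quotient.mk'' C, rfl⟩
  rw [← Nat.card_congr (Equiv.ofBijective f hf), Nat.card_eq_fintype_card, Nat.card_eq_fintype_card,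
    mul_comm, ← MulAction.sum_card_fixedBy_eq_card_orbits_mul_card_group]
  refine Finset.sum_congr rfl fun z _ => ?_
  rw [← Nat.card_eq_fintype_card]
  rfl

end Generic

variable {K : Type*} [Field K] [Fintype K]

theorem two_le_card : 2 ≤ Fintype.card K := Fintype.one_lt_card

theorem le_div_sub {a b : ℕ} (h : (Fintype.card K - 1) * a ≤ (Fintype.card K - 1) * b) : a ≤ b :=
  Nat.le_of_mul_le_mul_left h (by have := two_le_card (K := K); omega)

theorem card_classes_le {n : ℕ} (hn : 0 < n) :
    (Fintype.card K - 1) * Nat.card (ConjClasses (Matrix.SpecialLinearGroup (Fin n) K)) ≤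
      E (Fintype.card K) n := by
  classical
  have h := card_fixed_le (n := n) (c := (1 : Kˣ)) (e := 1) hn orderOf_one (one_dvd n)
  rw [Nat.div_one] at h
  convert h using 2
  refine Nat.card_congr (Equiv.subtypeUnivEquiv fun C a _ => ⟨1, ?_⟩).symm
  simp

theorem card_classes_le_three {n : ℕ} (hn : 3 ≤ n) :
    Nat.card (ConjClasses (Matrix.SpecialLinearGroup (Fin n) K)) ≤
      Fintype.card K ^ (n - 1) + 3 * Fintype.card K ^ (n - 2) :=
  le_div_sub (K := K) ((card_classes_le (by omega)).trans (E_le _ _ two_le_card hn))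

theorem two_card_classes_le {n : ℕ} (hn : 0 < n) :
    2 * Nat.card (ConjClasses (Matrix.SpecialLinearGroup (Fin n) K)) ≤ 5 * Fintype.card K ^ (n - 1) :=
  le_div_sub (K := K) (by
    rw [Nat.mul_left_comm]
    exact (Nat.mul_le_mul_left 2 (card_classes_le hn)).trans (two_E_le _ _ two_le_card hn))

theorem lt_card_classes {n : ℕ} (hn : 2 ≤ n) :
    Fintype.card K ^ (n - 1) < Nat.card (ConjClasses (Matrix.SpecialLinearGroup (Fin n) K)) := by
  classical
  haveI := Fintype.ofFinite (ConjClasses (Matrix.SpecialLinearGroup (Fin n) K))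
  let χ : ConjClasses (Matrix.SpecialLinearGroup (Fin n) K) → K[X] :=
    Quotient.lift (fun a => (a : Matrix (Fin n) (Fin n) K).charpoly) fun a b (h : IsConj a b) => by
      obtain ⟨g, rfl⟩ := isConj_iff.1 h
      have h' := Matrix.charpoly_units_conj (Matrix.SpecialLinearGroup.toGL g) (a : Matrix (Fin n) (Fin n) K)
      rw [← Matrix.coe_units_inv, ← map_inv] at h'
      exact h'.symm
  have hχ : ∀ C, (χ C).Monic ∧ (χ C).natDegree = n - 1 + 1 ∧ (χ C).coeff 0 ∈ ({(-1) ^ n} : Set K) := by
    intro C
    obtain ⟨a, rfl⟩ := ConjClasses.mk_surjective C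
    refine ⟨Matrix.charpoly_monic _, ?_, ?_⟩
    · show (Matrix.charpoly _).natDegree = _
      rw [Matrix.charpoly_natDegree_eq_dim, Fintype.card_fin]
      omega
    · have h := Matrix.det_eq_sign_charpoly_coeff (a : Matrix (Fin n) (Fin n) K)
      rw [a.2, Fintype.card_fin] at h
      show Polynomial.coeff _ 0 = _
      change Polynomial.coeff (a : Matrix (Fin n) (Fin n) K).charpoly 0 = _
      calc (a : Matrix (Fin n) (Fin n) K).charpoly.coeff 0
          = (-1) ^ n * ((-1) ^ n * (a : Matrix (Fin n) (Fin n) K).charpoly.coeff 0) := by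
            rw [← mul_assoc, ← mul_pow]; simp
        _ = (-1) ^ n := by rw [← h, mul_one]
  let f : ConjClasses (Matrix.SpecialLinearGroup (Fin n) K) →
      {P : K[X] // P.Monic ∧ P.natDegree = n - 1 + 1 ∧ P.coeff 0 ∈ ({(-1) ^ n} : Set K)} :=
    fun C => ⟨χ C, hχ C⟩
  have hsurj : Function.Surjective f := by
    rintro ⟨P, hP, hd, hc⟩
    obtain ⟨M, hM⟩ := CfsgLib.SemisimpleClasses.exists_matrix_charpoly hP (n := n) (by omega)
    have hdet : M.det = 1 := by
      rw [Matrix.det_eq_sign_charpoly_coeff, hM, Set.mem_singleton_iff.1 hc, Fintype.card_fin, ← mul_pow]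
      simp
    exact ⟨ConjClasses.mk ⟨M, hdet⟩, Subtype.ext hM⟩
  have hninj : ¬ Function.Injective f := by
    intro hinj
    let i : Fin n := ⟨0, by omega⟩
    let j : Fin n := ⟨1, by omega⟩
    have hij : i ≠ j := by simp [i, j, Fin.ext_iff]
    let t : Matrix.SpecialLinearGroup (Fin n) K :=
      ⟨Matrix.transvection i j 1, Matrix.det_transvection_of_ne i j hij 1⟩
    have ht : (Matrix.transvection i j (1 : K)).charpoly = (1 : Matrix (Fin n) (Fin n) K).charpoly := by
      rw [Matrix.charpoly_of_isUpperTriangular, Matrix.charpoly_one]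
      · rw [Finset.prod_congr rfl (g := fun _ => (X : K[X]) - 1) fun k _ => ?_, Finset.prod_const,
          Finset.card_univ]
        have hk : ¬ (i = k ∧ j = k) := fun hk => hij (hk.1.trans hk.2.symm)
        simp [Matrix.transvection, Matrix.single_apply, hk]
      · intro a b hab
        change b < a at hab
        have hk : ¬ (i = a ∧ j = b) := by
          rintro ⟨rfl, rfl⟩
          exact absurd hab (by simp [i, j, Fin.lt_def])
        simp [Matrix.transvection, Matrix.one_apply_ne hab.ne', Matrix.single_apply, hk]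
    have h1 : ConjClasses.mk t = ConjClasses.mk 1 := hinj (Subtype.ext ht)
    rw [ConjClasses.mk_eq_mk_iff_isConj, isConj_one_left] at h1
    have h2 := congrArg (fun a : Matrix.SpecialLinearGroup (Fin n) K => (a : Matrix (Fin n) (Fin n) K) i j) h1
    simp [t, Matrix.transvection, Matrix.one_apply_ne hij] at h2
  haveI := Fintype.ofSurjective f hsurj
  have h := Fintype.card_lt_of_surjective_not_injective f hsurj hninj
  rw [← Nat.card_eq_fintype_card, ← Nat.card_eq_fintype_card,
    CfsgLib.SemisimpleClasses.card_monic_coeff_zero] at h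
  simpa using h

theorem card_center {n : ℕ} (hn : 0 < n) :
    Nat.card (Subgroup.center (Matrix.SpecialLinearGroup (Fin n) K)) = Nat.gcd n (Fintype.card K - 1) := by
  rw [Nat.card_congr (Matrix.SpecialLinearGroup.center_equiv_rootsOfUnity' (⟨0, hn⟩ : Fin n)).toEquiv,
    rootsOfUnity_eq_ker, IsCyclic.card_powMonoidHom_ker, Nat.card_units, Nat.card_eq_fintype_card,
    Fintype.card_fin, Nat.gcd_comm]

theorem card_shift_fixed {n : ℕ} (hn : 2 ≤ n) (z : Subgroup.center (Matrix.SpecialLinearGroup (Fin n) K))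
    (hz : z ≠ 1) :
    ∃ m, 0 < m ∧ 2 * m ≤ n ∧ m ∣ n ∧ (Fintype.card K - 1) *
      Nat.card {C : ConjClasses (Matrix.SpecialLinearGroup (Fin n) K) // shift z C = C} ≤
        E (Fintype.card K) m := by
  classical
  obtain ⟨r, hr, hrz⟩ := Matrix.SpecialLinearGroup.mem_center_iff.1 z.2
  rw [Fintype.card_fin] at hr
  let c : Kˣ := Units.ofPowEqOne r n hr (by omega)
  have hen : orderOf c ∣ n := orderOf_dvd_of_pow_eq_one (Units.pow_ofPowEqOne hr _)
  have he : 2 ≤ orderOf c := by
    have h0 : 0 < orderOf c := orderOf_pos c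
    by_contra h
    have h1 : c = 1 := orderOf_eq_one_iff.1 (by omega)
    refine hz (Subtype.ext (Subtype.ext ?_))
    rw [← hrz, show r = 1 from congrArg Units.val h1]
    simp
  refine ⟨n / orderOf c, Nat.div_pos (Nat.le_of_dvd (by omega) hen) (by omega), ?_, Nat.div_dvd_of_dvd hen,
    le_trans ?_ (card_fixed_le (c := c) (by omega) rfl hen)⟩
  · calc 2 * (n / orderOf c) ≤ orderOf c * (n / orderOf c) := Nat.mul_le_mul_right _ he
      _ = n := Nat.mul_div_cancel' hen
  refine Nat.mul_le_mul_left _ (Nat.card_le_card_of_injective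
    (fun C => ⟨C.1, fun a ha => ?_⟩) fun C D h => Subtype.ext (Subtype.mk.inj h))
  have h1 := C.2
  rw [← ha, shift_mk, ConjClasses.mk_eq_mk_iff_isConj] at h1
  obtain ⟨g, hg⟩ := isConj_iff.1 h1.symm
  refine ⟨Matrix.SpecialLinearGroup.toGL g, ?_⟩
  rw [mul_inv_eq_iff_eq_mul] at hg
  have h2 := congrArg (fun x : Matrix.SpecialLinearGroup (Fin n) K => (x : Matrix (Fin n) (Fin n) K)) hg
  simp only [Matrix.SpecialLinearGroup.coe_mul] at h2
  rw [← hrz] at h2
  simpa [Matrix.smul_eq_diagonal_mul, c] using h2

theorem psl_bounds {n : ℕ} (hn : 2 ≤ n) :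
    Fintype.card K ^ (n - 1) ≤ Nat.gcd n (Fintype.card K - 1) *
        Nat.card (ConjClasses (Matrix.ProjectiveSpecialLinearGroup (Fin n) K)) ∧
    Nat.gcd n (Fintype.card K - 1) * Nat.card (ConjClasses (Matrix.ProjectiveSpecialLinearGroup (Fin n) K)) ≤
        Fintype.card K ^ (n - 1) + 5 * Fintype.card K ^ (n - 2) := by
  classical
  haveI := Fintype.ofFinite (Subgroup.center (Matrix.SpecialLinearGroup (Fin n) K))
  rw [← card_center (K := K) (by omega), card_center_mul_card_conjClasses,
    ← Finset.add_sum_erase _ _ (Finset.mem_univ 1)]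
  have h1 : Nat.card {C : ConjClasses (Matrix.SpecialLinearGroup (Fin n) K) // shift 1 C = C} =
      Nat.card (ConjClasses (Matrix.SpecialLinearGroup (Fin n) K)) :=
    Nat.card_congr (Equiv.subtypeUnivEquiv fun C => by
      obtain ⟨a, rfl⟩ := ConjClasses.mk_surjective C
      rw [shift_mk, Subgroup.coe_one, one_mul])
  rw [h1]
  refine ⟨(lt_card_classes hn).le.trans (Nat.le_add_right _ _), ?_⟩
  set q := Fintype.card K with hq
  have hq2 : 2 ≤ q := two_le_card
  set d := Nat.gcd n (q - 1) with hd
  have hdn : d ≤ n := Nat.gcd_le_left _ (by omega)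
  have hdq : d ≤ q - 1 := Nat.gcd_le_right _ (by omega)
  have hcard : (Finset.univ.erase (1 : Subgroup.center (Matrix.SpecialLinearGroup (Fin n) K))).card = d - 1 := by
    rw [Finset.card_erase_of_mem (Finset.mem_univ _), Finset.card_univ, ← Nat.card_eq_fintype_card,
      card_center (by omega)]
  have hbound : ∀ k B, (∀ m, 0 < m → 2 * m ≤ n → m ∣ n → k * E q m ≤ (q - 1) * B) →
      k * ∑ z ∈ Finset.univ.erase (1 : Subgroup.center (Matrix.SpecialLinearGroup (Fin n) K)),
        Nat.card {C : ConjClasses (Matrix.SpecialLinearGroup (Fin n) K) // shift z C = C} ≤ (d - 1) * B := by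
    intro k B hB
    rw [Finset.mul_sum]
    refine (Finset.sum_le_card_nsmul _ _ B fun z hz => ?_).trans (by rw [hcard, smul_eq_mul])
    obtain ⟨m, h0, h2, h3, h4⟩ := card_shift_fixed hn z (Finset.ne_of_mem_erase hz)
    refine le_div_sub (K := K) ?_
    rw [Nat.mul_left_comm]
    exact (Nat.mul_le_mul_left k h4).trans (hB m h0 h2 h3)
  rcases (by omega : n = 2 ∨ n = 3 ∨ n = 4 ∨ 5 ≤ n) with h | h | h | h
  · subst h
    have hk : Nat.card (ConjClasses (Matrix.SpecialLinearGroup (Fin 2) K)) ≤ q + 4 :=
      le_div_sub (K := K) ((card_classes_le (by omega)).trans (E_two q hq2).1)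
    have hs := hbound 1 1 fun m h0 h2 _ => by
      obtain rfl : m = 1 := by omega
      rw [E_one, mul_one, one_mul]
    simp only [Nat.reduceSub, pow_one, pow_zero, mul_one, one_mul] at *
    omega
  · subst h
    have hk := card_classes_le_three (K := K) (n := 3) le_rfl
    have hs := hbound 1 1 fun m h0 h2 _ => by
      obtain rfl : m = 1 := by omega
      rw [E_one, mul_one, one_mul]
    simp only [Nat.reduceSub, pow_one, mul_one, one_mul, ← hq] at *
    omega
  · subst h
    have hk := card_classes_le_three (K := K) (n := 4) (by norm_num)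
    have hs := hbound 1 (q + 4) fun m h0 h2 _ => by
      rw [one_mul]
      rcases (by omega : m = 1 ∨ m = 2) with rfl | rfl
      · rw [E_one]; exact Nat.le_mul_of_pos_right _ (by omega)
      · exact (E_two q hq2).1
    have h3 : (d - 1) * (q + 4) ≤ 2 * q ^ 2 := by
      rcases (by omega : q = 2 ∨ q = 3 ∨ q = 4 ∨ 5 ≤ q) with h | h | h | h
      · rw [show d - 1 = 0 by omega]; simp
      · rw [h]; have : d - 1 ≤ 1 := by omega
        exact (Nat.mul_le_mul_right _ this).trans (by norm_num)
      · rw [h]; have : d - 1 ≤ 2 := by omega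
        exact (Nat.mul_le_mul_right _ this).trans (by norm_num)
      · have : d - 1 ≤ 3 := by omega
        exact (Nat.mul_le_mul_right _ this).trans (by nlinarith)
    simp only [← hq, Nat.reduceSub, one_mul] at *
    omega
  · have hk := card_classes_le_three (K := K) (n := n) (by omega)
    have hs := hbound 2 (5 * q ^ (n / 2 - 1)) fun m h0 h2 _ => (two_E_le q m hq2 h0).trans
      (Nat.mul_le_mul_left _ (Nat.mul_le_mul_left _ (Nat.pow_le_pow_right (by omega) (by omega))))
    have h3 : (d - 1) * (5 * q ^ (n / 2 - 1)) ≤ 4 * q ^ (n - 2) := by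
      calc (d - 1) * (5 * q ^ (n / 2 - 1)) ≤ q * (5 * q ^ (n / 2 - 1)) :=
            Nat.mul_le_mul_right _ (by omega)
        _ = 5 * q ^ (n / 2 - 1 + 1) := by ring
        _ ≤ (4 * q) * q ^ (n / 2 - 1 + 1) := Nat.mul_le_mul_right _ (by omega)
        _ = 4 * q ^ (n / 2 - 1 + 1 + 1) := by ring
        _ ≤ 4 * q ^ (n - 2) := Nat.mul_le_mul_left _ (Nat.pow_le_pow_right (by omega) (by omega))
    simp only [← hq] at *
    omega

end CfsgLib.ClassNumberSL
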